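import Mathlib

/-!
Prime powers which exceed a prime power by one.
-/

set_option autoImplicit false

namespace Cfsg.Agent.Lib.HallHigman

theorem eq_two_of_exception {p q n m : ℕ} (hp : p.Prime) (hp2 : p ≠ 2) (hq : q.Prime) (hn : 1 ≤ n)
    (hm : 1 ≤ m) (h : p ^ n - 1 = q ^ m) : q = 2 := by
  have hodd : Odd (p ^ n) := (hp.odd_of_ne_two hp2).pow
  have h1 : 2 ∣ q ^ m := by
    obtain ⟨k, hk⟩ := hodd
    exact ⟨k, by omega⟩
  exact ((Nat.prime_dvd_prime_iff_eq Nat.prime_two hq).mp (Nat.prime_two.dvd_of_dvd_pow h1)).symm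

theorem exception_two {p n m : ℕ} (hp : p.Prime) (hp2 : p ≠ 2) (hn : 1 ≤ n) (h : p ^ n - 1 = 2 ^ m) :
    (n = 1 ∧ p = 2 ^ m + 1) ∨ (n = 2 ∧ p = 3 ∧ m = 3) := by
  have hp3 : 3 ≤ p := by have := hp.two_le; omega
  have hpn : p ^ n = 2 ^ m + 1 := by have := Nat.one_le_pow n p hp.pos; omega
  rcases Nat.even_or_odd n with ⟨h', rfl⟩ | hodd
  · right
    set a := p ^ h' with ha
    have ha3 : 3 ≤ a := hp3.trans (Nat.le_self_pow (by omega) p)
    have h2 : (a - 1) * (a + 1) = 2 ^ m := by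
      rw [← h, pow_add, ← ha]
      obtain ⟨b, hb⟩ : ∃ b, a = b + 1 := ⟨a - 1, by omega⟩
      rw [hb, Nat.add_sub_cancel]
      have e : (b + 1) * (b + 1) = b * (b + 1 + 1) + 1 := by ring
      omega
    obtain ⟨i, -, hi⟩ := (Nat.dvd_prime_pow Nat.prime_two).mp (h2 ▸ Dvd.intro _ rfl : a - 1 ∣ 2 ^ m)
    obtain ⟨j, -, hj⟩ := (Nat.dvd_prime_pow Nat.prime_two).mp (h2 ▸ Dvd.intro_left _ rfl : a + 1 ∣ 2 ^ m)
    have hi1 : i = 1 := by
      rcases Nat.lt_or_ge i 2 with h3 | h3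
      · rcases (by omega : i = 0 ∨ i = 1) with h4 | h4
        · rw [h4, pow_zero] at hi; omega
        · exact h4
      · exfalso
        have h4 : 4 ∣ 2 ^ i := by rw [show i = 2 + (i - 2) by omega, pow_add]; exact Dvd.intro _ rfl
        rcases Nat.lt_or_ge j 2 with h5 | h5
        · have : 2 ^ j ≤ 2 ^ 1 := Nat.pow_le_pow_right (by norm_num) (by omega)
          omega
        · have h6 : 4 ∣ 2 ^ j := by rw [show j = 2 + (j - 2) by omega, pow_add]; exact Dvd.intro _ rfl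
          omega
    have hae : a = 3 := by rw [hi1, pow_one] at hi; omega
    have hh : h' = 1 := by
      by_contra hne
      have h4 : p ^ 2 ≤ p ^ h' := Nat.pow_le_pow_right hp.pos (by omega)
      have : 9 ≤ p ^ 2 := by nlinarith
      omega
    subst hh
    rw [pow_one] at ha
    have hp' : p = 3 := by omega
    subst hp'
    refine ⟨rfl, rfl, Nat.pow_right_injective le_rfl ?_⟩
    show 2 ^ m = 2 ^ 3
    norm_num at hpn ⊢
    omega
  · left
    obtain ⟨x, rfl⟩ : ∃ x, p = x + 1 := ⟨p - 1, by omega⟩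
    have hg := geom_sum_mul_add x n
    have hS : (∑ i ∈ Finset.range n, (x + 1) ^ i) * x = 2 ^ m := by omega
    set S := ∑ i ∈ Finset.range n, (x + 1) ^ i with hSdef
    obtain ⟨i, -, hi⟩ := (Nat.dvd_prime_pow Nat.prime_two).mp (hS ▸ Dvd.intro _ rfl : S ∣ 2 ^ m)
    have hSodd : Odd S := by
      rw [hSdef, Finset.odd_sum_iff_odd_card_odd, Finset.filter_true_of_mem fun i _ => (hp.odd_of_ne_two hp2).pow,
        Finset.card_range]
      exact hodd
    have hi0 : i = 0 := by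
      by_contra hne
      rw [hi, Nat.odd_pow_iff hne] at hSodd
      exact absurd hSodd (by decide)
    rw [hi0, pow_zero] at hi
    rw [hi, one_mul] at hS
    have hn1 : n = 1 := by
      by_contra hne
      have h4 : (x + 1) ^ 2 ≤ (x + 1) ^ n := Nat.pow_le_pow_right (by omega) (by omega)
      nlinarith
    exact ⟨hn1, by omega⟩

end Cfsg.Agent.Lib.HallHigman
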