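import Mathlib
import Cfsg.Agent.Lib.PLocal.QDim
import Cfsg.Agent.S4282

/-!
The lower bound of Hall and Higman on the degree of the minimal polynomial of a `p`-element which
moves a `q`-group.
-/

set_option autoImplicit false

namespace Cfsg.Agent.Lib.HallHigman

open scoped commutatorElement

variable {K : Type*} [Field K] {V : Type*} [AddCommGroup V] [Module K V] [FiniteDimensional K V]
  {G : Type*} [Group G] [Finite G] (ρ : G →* Module.End K V) (Q : Subgroup G)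

/-- Stability under `Q`. -/
def Stab (U : Submodule K V) : Prop := ∀ c ∈ Q, ∀ u ∈ U, ρ c u ∈ U

/-- Irreducibility under `Q`. -/
def Irred (U : Submodule K V) : Prop :=
  Stab ρ Q U ∧ U ≠ ⊥ ∧ ∀ W, W ≤ U → Stab ρ Q W → W = ⊥ ∨ W = U

/-- `g` fixes the isomorphism type of `U`. -/
def Tw (U : Submodule K V) (g : G) : Prop :=
  ∃ e : U ≃ₗ[K] U, ∀ c ∈ Q, ∀ u w : U, (w : V) = ρ c u → (e w : V) = ρ (g * c * g⁻¹) (e u)

variable {ρ Q}

theorem ρ_mul (g h : G) (v : V) : ρ (g * h) v = ρ g (ρ h v) := by rw [map_mul]; rfl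

theorem ρ_one (v : V) : ρ 1 v = v := by rw [map_one]; rfl

theorem conj_mem {g : G} (hg : g ∈ Subgroup.normalizer (Q : Set G)) {c : G} (hc : c ∈ Q) :
    g * c * g⁻¹ ∈ Q := (Subgroup.mem_normalizer_iff.mp hg c).mp hc

theorem conj_mem' {g : G} (hg : g ∈ Subgroup.normalizer (Q : Set G)) {c : G} (hc : c ∈ Q) :
    g⁻¹ * c * g ∈ Q := by simpa using conj_mem (inv_mem hg) hc

theorem tw_one (U : Submodule K V) : Tw ρ Q U 1 :=
  ⟨LinearEquiv.refl K U, fun c _ u w h => by simpa using h⟩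

theorem tw_mul {U : Submodule K V} {g h : G} (hh : h ∈ Subgroup.normalizer (Q : Set G))
    (hg' : Tw ρ Q U g) (hh' : Tw ρ Q U h) : Tw ρ Q U (g * h) := by
  obtain ⟨eg, heg⟩ := hg'
  obtain ⟨eh, heh⟩ := hh'
  refine ⟨eh.trans eg, fun c hc u w huw => ?_⟩
  have := heg _ (conj_mem hh hc) (eh u) (eh w) (heh c hc u w huw)
  simpa [mul_assoc] using this

theorem tw_inv {U : Submodule K V} (hU : Stab ρ Q U) {g : G} (hg : g ∈ Subgroup.normalizer (Q : Set G))
    (hg' : Tw ρ Q U g) : Tw ρ Q U g⁻¹ := by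
  obtain ⟨e, he⟩ := hg'
  refine ⟨e.symm, fun c hc u w huw => ?_⟩
  have hc' : g⁻¹ * c * g ∈ Q := conj_mem' hg hc
  let w' : U := ⟨ρ (g⁻¹ * c * g) (e.symm u), hU _ hc' _ (e.symm u).2⟩
  have h1 := he _ hc' (e.symm u) w' rfl
  rw [LinearEquiv.apply_symm_apply, show g * (g⁻¹ * c * g) * g⁻¹ = c by group, ← huw] at h1
  have h2 : e w' = w := Subtype.ext h1
  rw [← h2, LinearEquiv.symm_apply_apply, inv_inv]

theorem tw_of_map {U : Submodule K V} (hU : Irred ρ Q U) {g : G} (L : U →ₗ[K] U) (hL : L ≠ 0)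
    (h : ∀ c ∈ Q, ∀ u w : U, (w : V) = ρ c u → (L w : V) = ρ (g * c * g⁻¹) (L u)) : Tw ρ Q U g := by
  have hinj : Function.Injective L := by
    rw [← LinearMap.ker_eq_bot]
    rcases hU.2.2 ((LinearMap.ker L).map U.subtype) (Submodule.map_subtype_le U _) (by
      rintro c hc _ ⟨u, hu, rfl⟩
      refine ⟨⟨ρ c u, hU.1 c hc u u.2⟩, ?_, rfl⟩
      refine LinearMap.mem_ker.mpr (Subtype.ext ?_)
      rw [h c hc u _ rfl, LinearMap.mem_ker.mp hu]
      simp) with h0 | h0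
    · exact Submodule.map_injective_of_injective (Submodule.subtype_injective U) (h0.trans (Submodule.map_bot _).symm) ▸ rfl
    · refine absurd (LinearMap.ext fun u => ?_) hL
      obtain ⟨u', hu', e⟩ := (h0.ge u.2 : (u : V) ∈ (LinearMap.ker L).map U.subtype)
      rw [← Subtype.ext e, LinearMap.mem_ker.mp hu', LinearMap.zero_apply]
  exact ⟨LinearEquiv.ofInjectiveEndo L hinj, h⟩

theorem exists_irred [IsAlgClosed K] (hQ : (Nat.card Q : K) ≠ 0) {c₀ : G} (hc₀ : c₀ ∈ Q) (h₀ : ρ c₀ ≠ 1) :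
    ∃ U, Irred ρ Q U ∧ ∀ u ∈ U, (∀ c ∈ Q, ρ c u = u) → u = 0 := by
  classical
  haveI := Fintype.ofFinite Q
  set e : Module.End K V := ∑ c : Q, ρ c with he
  have hel : ∀ d ∈ Q, ∀ v, e (ρ d v) = e v := fun d hd v => by
    simp only [he, LinearMap.sum_apply, ← ρ_mul]
    exact Fintype.sum_equiv (Equiv.mulRight (⟨d, hd⟩ : Q)) _ _ fun c => rfl
  have her : ∀ d ∈ Q, ∀ v, ρ d (e v) = e v := fun d hd v => by
    simp only [he, LinearMap.sum_apply, map_sum, ← ρ_mul]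
    exact Fintype.sum_equiv (Equiv.mulLeft (⟨d, hd⟩ : Q)) _ _ fun c => rfl
  have hfix : ∀ u ∈ LinearMap.ker e, (∀ c ∈ Q, ρ c u = u) → u = 0 := fun u hu h => by
    have h1 : e u = (Nat.card Q : K) • u := by
      rw [he, LinearMap.sum_apply, Finset.sum_congr rfl fun (c : Q) _ => h (c : G) c.2, Finset.sum_const,
        Finset.card_univ, ← Nat.card_eq_fintype_card, Nat.cast_smul_eq_nsmul]
    rw [LinearMap.mem_ker.mp hu] at h1
    exact (smul_eq_zero.mp h1.symm).resolve_left hQ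
  have hE : Stab ρ Q (LinearMap.ker e) := fun c hc u hu => by
    rw [LinearMap.mem_ker, hel c hc, LinearMap.mem_ker.mp hu]
  have hE0 : LinearMap.ker e ≠ ⊥ := fun h0 => h₀ (LinearMap.ext fun v => by
    refine LinearMap.ker_eq_bot.mp h0 ?_
    rw [hel c₀ hc₀]; rfl)
  have hex : ∃ d, ∃ U, U ≤ LinearMap.ker e ∧ Stab ρ Q U ∧ U ≠ ⊥ ∧ Module.finrank K U = d :=
    ⟨_, _, le_rfl, hE, hE0, rfl⟩
  obtain ⟨U, hUe, hUs, hU0, hUd⟩ := Nat.find_spec hex
  refine ⟨U, ⟨hUs, hU0, fun W hW hWs => ?_⟩, fun u hu => hfix u (hUe hu)⟩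
  refine or_iff_not_imp_left.mpr fun hW0 => Submodule.eq_of_le_of_finrank_le hW ?_
  rw [hUd]
  exact Nat.find_min' hex ⟨W, hW.trans hUe, hWs, hW0, rfl⟩

/-- Translates of an irreducible space of different types are independent. -/
theorem indep {U : Submodule K V} (hU : Irred ρ Q U) {x : G} (hx : x ∈ Subgroup.normalizer (Q : Set G)) :
    ∀ k : ℕ, (∀ d, 0 < d → d < k → ¬ Tw ρ Q U (x ^ d)) →
      ∀ f : Fin k → U, ∑ i : Fin k, ρ (x ^ (i : ℕ)) (f i) = 0 → f = 0 := by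
  intro k
  induction k with
  | zero => exact fun _ f _ => funext fun i => i.elim0
  | succ k ih =>
    intro hk f hf
    let Ψ : (Fin k → U) →ₗ[K] V :=
      ∑ i : Fin k, (ρ (x ^ (i : ℕ)) ∘ₗ U.subtype) ∘ₗ LinearMap.proj i
    have hΨ : ∀ g, Ψ g = ∑ i : Fin k, ρ (x ^ (i : ℕ)) (g i) := fun g => by simp [Ψ]
    have hΨi : Function.Injective Ψ := by
      rw [← LinearMap.ker_eq_bot]
      exact LinearMap.ker_eq_bot'.mpr fun g hg => ih (fun d h1 h2 => hk d h1 (by omega)) g (by rwa [← hΨ])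
    have heq : ∀ (i : ℕ) (c : G) (v : V), ρ c (ρ (x ^ i) v) = ρ (x ^ i) (ρ ((x ^ i)⁻¹ * c * x ^ i) v) :=
      fun i c v => by rw [← ρ_mul, ← ρ_mul]; group
    have hM : Stab ρ Q (LinearMap.range Ψ) := by
      rintro c hc _ ⟨g, rfl⟩
      refine ⟨fun i => ⟨_, hU.1 _ (conj_mem' (pow_mem hx (i : ℕ)) hc) _ (g i).2⟩, ?_⟩
      rw [hΨ, hΨ, map_sum]
      exact Finset.sum_congr rfl fun i _ => (heq _ _ _).symm
    rw [Fin.sum_univ_castSucc] at hf
    simp only [Fin.val_castSucc, Fin.val_last] at hf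
    suffices hlast : f (Fin.last k) = 0 by
      rw [hlast] at hf
      simp only [ZeroMemClass.coe_zero, map_zero, add_zero] at hf
      have := ih (fun d h1 h2 => hk d h1 (by omega)) (fun i => f i.castSucc) hf
      funext i
      exact Fin.lastCases hlast (fun i => congrFun this i) i
    have hW : Stab ρ Q (U ⊓ (LinearMap.range Ψ).comap (ρ (x ^ k))) := by
      rintro c hc u ⟨hu1, hu2⟩
      refine ⟨hU.1 c hc u hu1, ?_⟩
      show ρ (x ^ k) (ρ c u) ∈ LinearMap.range Ψ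
      have := hM _ (conj_mem (pow_mem hx k) hc) _ hu2
      rw [heq] at this
      simpa [mul_assoc] using this
    rcases hU.2.2 _ inf_le_left hW with h0 | h0
    · refine Subtype.ext ((Submodule.mem_bot K).mp (h0.le ⟨(f (Fin.last k)).2, ?_⟩))
      refine ⟨-fun i => f i.castSucc, ?_⟩
      rw [map_neg, hΨ, neg_eq_iff_add_eq_zero]
      exact hf
    exfalso
    have hall : ∀ u : U, ρ (x ^ k) (u : V) ∈ LinearMap.range Ψ := fun u => (h0.ge u.2).2
    let L : U →ₗ[K] (Fin k → U) := (LinearEquiv.ofInjective Ψ hΨi).symm.toLinearMap ∘ₗ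
      LinearMap.codRestrict (LinearMap.range Ψ) (ρ (x ^ k) ∘ₗ U.subtype) hall
    have hL : ∀ u : U, Ψ (L u) = ρ (x ^ k) (u : V) := fun u => by
      have := congrArg Subtype.val ((LinearEquiv.ofInjective Ψ hΨi).apply_symm_apply
        (⟨ρ (x ^ k) (u : V), hall u⟩ : LinearMap.range Ψ))
      exact this
    have hL0 : ∀ i : Fin k, LinearMap.proj i ∘ₗ L = 0 := by
      intro i
      by_contra hne
      refine hk (k - i) (by omega) (by omega) (tw_of_map hU (g := x ^ (k - (i : ℕ))) _ hne ?_)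
      intro c hc u w huw
      have key : L w = fun i : Fin k => ⟨ρ ((x ^ (i : ℕ))⁻¹ * (x ^ k * c * (x ^ k)⁻¹) * x ^ (i : ℕ)) (L u i),
          hU.1 _ (conj_mem' (pow_mem hx _) (conj_mem (pow_mem hx k) hc)) _ (L u i).2⟩ := by
        refine hΨi ?_
        rw [hL, huw, hΨ]
        have : ρ (x ^ k) (ρ c (u : V)) = ρ (x ^ k * c * (x ^ k)⁻¹) (Ψ (L u)) := by
          rw [hL, ← ρ_mul, ← ρ_mul]; group
        rw [this, hΨ, map_sum]
        exact Finset.sum_congr rfl fun i _ => heq _ _ _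
      show ((L w i : U) : V) = ρ _ (L u i : V)
      rw [key]
      show ρ _ _ = ρ _ _
      have e : x ^ (k - (i : ℕ)) = (x ^ (i : ℕ))⁻¹ * x ^ k := by
        rw [eq_inv_mul_iff_mul_eq, ← pow_add]; congr 1; omega
      rw [e]; group
    refine hU.2.1 ((Submodule.eq_bot_iff _).mpr fun u hu => ?_)
    have h1 := hL ⟨u, hu⟩
    rw [show L ⟨u, hu⟩ = 0 from funext fun i => LinearMap.congr_fun (hL0 i) ⟨u, hu⟩, map_zero] at h1
    have h2 := congrArg (ρ (x ^ k)⁻¹) h1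
    rw [map_zero, ← ρ_mul, inv_mul_cancel, ρ_one] at h2
    exact h2.symm

theorem eigen_image [IsAlgClosed K] {U : Submodule K V} (hU : Irred ρ Q U) {y : G}
    (hy : y ∈ Subgroup.normalizer (Q : Set G)) (hy' : Tw ρ Q U y) :
    ∃ U₁, Irred ρ Q U₁ ∧ (∀ u ∈ U₁, ρ y u ∈ U₁) ∧ (∀ g ∈ Subgroup.normalizer (Q : Set G), Tw ρ Q U₁ g → Tw ρ Q U g) ∧
      ((∀ u ∈ U, (∀ c ∈ Q, ρ c u = u) → u = 0) → ∀ u ∈ U₁, (∀ c ∈ Q, ρ c u = u) → u = 0) := by
  obtain ⟨e, he⟩ := hy'
  let M : Submodule K (U →ₗ[K] V) :=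
    { carrier := {f | ∀ c, ∀ hc : c ∈ Q, ∀ u w : U, (w : V) = ρ c u → f w = ρ c (f u)}
      add_mem' := fun {f g} hf hg c hc u w h => by
        rw [LinearMap.add_apply, LinearMap.add_apply, hf c hc u w h, hg c hc u w h, map_add]
      zero_mem' := fun c hc u w h => by simp
      smul_mem' := fun a f hf c hc u w h => by
        rw [LinearMap.smul_apply, LinearMap.smul_apply, hf c hc u w h, map_smul] }
  have hT : ∀ f ∈ M, (ρ y ∘ₗ f ∘ₗ (e.symm : U →ₗ[K] U)) ∈ M := by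
    intro f hf c hc u w h
    have hc' : y⁻¹ * c * y ∈ Q := conj_mem' hy hc
    let w' : U := ⟨ρ (y⁻¹ * c * y) (e.symm u), hU.1 _ hc' _ (e.symm u).2⟩
    have h1 := he _ hc' (e.symm u) w' rfl
    rw [LinearEquiv.apply_symm_apply, show y * (y⁻¹ * c * y) * y⁻¹ = c by group, ← h] at h1
    have h2 : e w' = w := Subtype.ext h1
    show ρ y (f (e.symm w)) = ρ c (ρ y (f (e.symm u)))
    rw [← h2, LinearEquiv.symm_apply_apply, hf _ hc' (e.symm u) w' rfl, ← ρ_mul, ← ρ_mul]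
    group
  let T : Module.End K M :=
    { toFun := fun f => ⟨_, hT f.1 f.2⟩
      map_add' := fun f g => Subtype.ext (by simp [LinearMap.add_comp, LinearMap.comp_add])
      map_smul' := fun a f => Subtype.ext (by simp [LinearMap.smul_comp, LinearMap.comp_smul]) }
  have hι : U.subtype ∈ M := fun c hc u w h => h
  haveI : Nontrivial M := ⟨⟨⟨_, hι⟩, 0, fun h => hU.2.1 ((Submodule.eq_bot_iff _).mpr fun u hu =>
    LinearMap.congr_fun (congrArg Subtype.val h) ⟨u, hu⟩)⟩⟩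
  obtain ⟨μ, hμ⟩ := Module.End.exists_eigenvalue T
  obtain ⟨⟨f, hfM⟩, hf, hf0⟩ := hμ.exists_hasEigenvector
  rw [Module.End.mem_eigenspace_iff] at hf
  have hf1 : ∀ u : U, ρ y (f u) = μ • f (e u) := fun u => by
    have := LinearMap.congr_fun (congrArg Subtype.val hf) (e u)
    simpa [T] using this
  have hinj : Function.Injective f := by
    rw [← LinearMap.ker_eq_bot]
    rcases hU.2.2 ((LinearMap.ker f).map U.subtype) (Submodule.map_subtype_le U _) (by
      rintro c hc _ ⟨u, hu, rfl⟩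
      refine ⟨⟨ρ c u, hU.1 c hc u u.2⟩, ?_, rfl⟩
      show f _ = 0
      rw [hfM c hc u _ rfl, LinearMap.mem_ker.mp hu, map_zero]) with h0 | h0
    · exact Submodule.map_injective_of_injective (Submodule.subtype_injective U) (h0.trans (Submodule.map_bot _).symm) ▸ rfl
    · refine absurd (Subtype.ext (LinearMap.ext fun u => ?_)) hf0
      obtain ⟨u', hu', e'⟩ := (h0.ge u.2 : (u : V) ∈ (LinearMap.ker f).map U.subtype)
      rw [← Subtype.ext e']
      exact LinearMap.mem_ker.mp hu'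
  have hs : Stab ρ Q (LinearMap.range f) := by
    rintro c hc _ ⟨u, rfl⟩
    exact ⟨⟨ρ c u, hU.1 c hc u u.2⟩, hfM c hc u _ rfl⟩
  refine ⟨LinearMap.range f, ⟨hs, ?_, fun W hW hWs => ?_⟩, ?_, ?_, ?_⟩
  · intro h0
    exact hU.2.1 ((Submodule.eq_bot_iff _).mpr fun u hu => congrArg Subtype.val
      (hinj (((Submodule.eq_bot_iff _).mp h0 _ ⟨⟨u, hu⟩, rfl⟩).trans (map_zero f).symm)))
  · rcases hU.2.2 ((W.comap f).map U.subtype) (Submodule.map_subtype_le U _) (by
      rintro c hc _ ⟨u, hu, rfl⟩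
      refine ⟨⟨ρ c u, hU.1 c hc u u.2⟩, ?_, rfl⟩
      show f _ ∈ W
      rw [hfM c hc u _ rfl]
      exact hWs c hc _ hu) with h0 | h0
    · left
      refine (Submodule.eq_bot_iff _).mpr fun v hv => ?_
      obtain ⟨u, rfl⟩ := hW hv
      have h1 : (u : V) = 0 := (Submodule.eq_bot_iff _).mp h0 _ ⟨u, hv, rfl⟩
      rw [show u = 0 from Subtype.ext h1, map_zero]
    · right
      refine le_antisymm hW ?_
      rintro _ ⟨u, rfl⟩
      obtain ⟨u', hu', e'⟩ := (h0.ge u.2 : (u : V) ∈ (W.comap f).map U.subtype)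
      rw [← Subtype.ext e']
      exact hu'
  · rintro _ ⟨u, rfl⟩
    rw [hf1]
    exact Submodule.smul_mem _ _ ⟨_, rfl⟩
  · rintro g hgN ⟨e₁, he₁⟩
    let φ := LinearEquiv.ofInjective f hinj
    refine ⟨(φ.trans e₁).trans φ.symm, fun c hc u w h => ?_⟩
    have h1 := he₁ c hc (φ u) (φ w) (hfM c hc u w h)
    set w₁ := φ.symm (e₁ (φ w))
    set u₁ := φ.symm (e₁ (φ u))
    show (w₁ : V) = ρ (g * c * g⁻¹) (u₁ : V)
    have hg : g * c * g⁻¹ ∈ Q := conj_mem hgN hc
    have h2 : f w₁ = f ⟨_, hU.1 _ hg _ u₁.2⟩ := by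
      rw [hfM _ hg u₁ ⟨_, hU.1 _ hg _ u₁.2⟩ rfl]
      have a : f w₁ = e₁ (φ w) := congrArg Subtype.val (φ.apply_symm_apply _)
      have b : f u₁ = e₁ (φ u) := congrArg Subtype.val (φ.apply_symm_apply _)
      rw [a, b]; exact h1
    exact congrArg Subtype.val (hinj h2)
  · intro hfix v hv h
    obtain ⟨u, rfl⟩ := hv
    have hu : (u : V) = 0 := hfix u u.2 fun c hc => congrArg Subtype.val
      (hinj ((hfM c hc u ⟨_, hU.1 c hc u u.2⟩ rfl).trans (h c hc)))
    rw [show u = 0 from Subtype.ext hu, map_zero]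

/-- The elements preserving a subspace. -/
def stabilizer (ρ : G →* Module.End K V) (U : Submodule K V) : Subgroup G where
  carrier := {g | ∀ u ∈ U, ρ g u ∈ U}
  one_mem' := fun u hu => by rwa [ρ_one]
  mul_mem' := fun {a b} ha hb u hu => by rw [ρ_mul]; exact ha _ (hb _ hu)
  inv_mem' := fun {g} hg => by
    have hpow : ∀ m : ℕ, ∀ u ∈ U, ρ (g ^ m) u ∈ U := fun m => by
      induction m with
      | zero => intro u hu; rwa [pow_zero, ρ_one]
      | succ m ih => intro u hu; rw [pow_succ', ρ_mul]; exact hg _ (ih _ hu)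
    have e : g⁻¹ = g ^ (orderOf g - 1) := inv_eq_of_mul_eq_one_right (by
      rw [← pow_succ', Nat.sub_add_cancel (orderOf_pos g), pow_orderOf_eq_one])
    exact fun u hu => e ▸ hpow _ u hu

/-- The Hall–Higman bound. -/
theorem bound [IsAlgClosed K] {p q : ℕ} [Fact p.Prime] [Fact q.Prime] [CharP K p] (hpq : p ≠ q)
    (ρ : G →* Module.End K V) (Q : Subgroup G) (hQ : IsPGroup q Q) (x : G)
    (hx : x ∈ Subgroup.normalizer (Q : Set G)) {n : ℕ} (hn : 0 < n) (hxo : orderOf x = p ^ n)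
    (hgen : Q ≤ Subgroup.closure {g | ∃ d ∈ Q, g = d⁻¹ * (x ^ p ^ (n - 1) * d * (x ^ p ^ (n - 1))⁻¹)})
    (hcomm : ∀ c ∈ Q, ∀ d ∈ Q, Commute ⁅c, d⁆ (x ^ p ^ (n - 1)))
    (hnt : ∃ c ∈ Q, ρ c ≠ 1) {r : ℕ} (hr : (ρ x - 1) ^ r = 0) :
    p ^ n ≤ r ∨ ∃ n₀ b : ℕ, 1 ≤ n₀ ∧ n₀ ≤ n ∧ 1 ≤ b ∧ p ^ n₀ - 1 = q ^ b ∧
      p ^ (n - n₀) * (p ^ n₀ - 1) ≤ r ∧ ¬ IsMulCommutative Q := by
  classical
  have hp : p.Prime := Fact.out
  obtain ⟨c₀, hc₀, h₀⟩ := hnt
  have hQK : (Nat.card Q : K) ≠ 0 := by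
    obtain ⟨k, hk⟩ := IsPGroup.iff_card.mp hQ
    rw [hk, Nat.cast_pow]
    refine pow_ne_zero _ fun h => hpq ?_
    exact (Nat.prime_dvd_prime_iff_eq hp (Fact.out : q.Prime)).mp ((CharP.cast_eq_zero_iff K p q).mp h)
  obtain ⟨U, hU, hUfix⟩ := exists_irred (ρ := ρ) hQK hc₀ h₀
  let S : Subgroup G :=
    { carrier := {g | g ∈ Subgroup.normalizer (Q : Set G) ∧ Tw ρ Q U g}
      one_mem' := ⟨one_mem _, tw_one U⟩
      mul_mem' := fun {a b} ha hb => ⟨mul_mem ha.1 hb.1, tw_mul hb.1 ha.2 hb.2⟩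
      inv_mem' := fun {a} ha => ⟨inv_mem ha.1, tw_inv hU.1 ha.1 ha.2⟩ }
  have hex : ∃ k, 0 < k ∧ x ^ k ∈ S := ⟨p ^ n, pow_pos hp.pos n, by
    rw [← hxo, pow_orderOf_eq_one]; exact one_mem S⟩
  obtain ⟨hP0, hPS⟩ := Nat.find_spec hex
  set P := Nat.find hex with hPdef
  have hdvd : P ∣ p ^ n := by
    by_contra hnd
    refine Nat.find_min hex (Nat.mod_lt (p ^ n) hP0) ⟨Nat.pos_of_ne_zero fun e => hnd (Nat.dvd_of_mod_eq_zero e), ?_⟩
    rw [← hPdef]
    have e : x ^ (p ^ n % P) = ((x ^ P) ^ (p ^ n / P))⁻¹ * x ^ (p ^ n) := by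
      rw [← pow_mul, eq_inv_mul_iff_mul_eq, ← pow_add, Nat.div_add_mod]
    rw [e]
    refine mul_mem (inv_mem (pow_mem hPS _)) ?_
    rw [← hxo, pow_orderOf_eq_one]; exact one_mem S
  obtain ⟨j, hjn, hPj⟩ := (Nat.dvd_prime_pow hp).mp hdvd
  set y := x ^ P with hy
  obtain ⟨U₁, hU₁, hyU, hTw, hfixU⟩ := eigen_image hU (pow_mem hx P) hPS.2
  have hfix₁ := hfixU hUfix
  have hind := indep hU₁ hx P fun d hd0 hdP h =>
    Nat.find_min hex hdP ⟨hd0, pow_mem hx d, hTw _ (pow_mem hx d) h⟩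
  haveI : Nontrivial U₁ := Submodule.nontrivial_iff_ne_bot.mpr hU₁.2.1
  -- the restriction of `y`
  set Y : Module.End K U₁ := (ρ y).restrict hyU with hY
  have hpoly : ∀ {W : Type _} [AddCommGroup W] [Module K W] (A : Module.End K W) (i : ℕ),
      (A - 1) ^ (p ^ i) = A ^ (p ^ i) - 1 ∧ (∑ k ∈ Finset.range (p ^ i), A ^ k) = (A - 1) ^ (p ^ i - 1) := by
    intro W _ _ A i
    constructor
    · have := congrArg (Polynomial.aeval A) (sub_pow_char_pow (p := p) (n := i) (Polynomial.X : Polynomial K) 1)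
      simpa using this
    · have := congrArg (Polynomial.aeval A) (Cfsg.Agent.S4282.geom_eq_pow (K := K) p i)
      simpa using this
  have hYpow : ∀ (m : ℕ) (u : U₁), ((Y ^ m) u : V) = ρ (y ^ m) u := by
    intro m
    induction m with
    | zero => intro u; rw [pow_zero, pow_zero, ρ_one]; rfl
    | succ m ih =>
      intro u
      rw [pow_succ' Y, pow_succ' y, Module.End.mul_apply, ρ_mul, ← ih]
      rfl
  have hyo : y ^ p ^ (n - j) = 1 := by
    rw [hy, hPj, ← pow_mul, ← pow_add, Nat.add_sub_cancel' hjn, ← hxo, pow_orderOf_eq_one]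
  have hnil : ∃ s, (Y - 1) ^ s = 0 := ⟨p ^ (n - j), by
    rw [(hpoly Y _).1, sub_eq_zero]
    refine LinearMap.ext fun u => Subtype.ext ?_
    rw [hYpow, hyo, ρ_one]; rfl⟩
  set s := Nat.find hnil with hsdef
  have hs : (Y - 1) ^ s = 0 := Nat.find_spec hnil
  have hmin : ∀ k < s, (Y - 1) ^ k ≠ 0 := fun k hk => Nat.find_min hnil hk
  have hs0 : 0 < s := Nat.pos_of_ne_zero fun e => by
    rw [e, pow_zero] at hs; exact one_ne_zero hs
  have hbound : P * s ≤ r := by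
    by_contra hlt
    refine hmin (s - 1) (by omega) (LinearMap.ext fun u => ?_)
    set v := ((Y - 1) ^ (s - 1)) u with hv
    have h1 : (ρ x - 1) ^ (P * s - 1) = 0 := pow_eq_zero_of_le (by omega) hr
    have h2 : P * s - 1 = (P - 1) + P * (s - 1) := by
      have : P * (s - 1) + P = P * s := by rw [← Nat.mul_succ]; congr 1; omega
      omega
    have hYV : ∀ (m : ℕ) (w : U₁), (((Y - 1) ^ m) w : V) = ((ρ y - 1) ^ m) (w : V) := by
      intro m
      induction m with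
      | zero => intro w; rfl
      | succ m ih =>
        intro w
        rw [pow_succ' (Y - 1), pow_succ' (ρ y - 1), Module.End.mul_apply, Module.End.mul_apply, ← ih]
        rfl
    rw [h2, pow_add, pow_mul, hPj, (hpoly (ρ x) j).1, ← (hpoly (ρ x) j).2, ← hPj, ← map_pow, ← hy] at h1
    have h3 := LinearMap.congr_fun h1 (u : V)
    rw [Module.End.mul_apply, ← hYV, LinearMap.sum_apply, LinearMap.zero_apply, Finset.sum_range] at h3
    have h4 := hind (fun _ => v) (by simpa [map_pow, hv] using h3)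
    exact congrFun h4 ⟨0, hP0⟩
  rw [hPj] at hbound
  rcases eq_or_lt_of_le hjn with rfl | hjlt
  · exact Or.inl ((Nat.le_mul_of_pos_right _ hs0).trans hbound)
  -- the action on `U₁`
  set z := x ^ p ^ (n - 1) with hz
  have hzy : z = y ^ p ^ (n - 1 - j) := by
    rw [hz, hy, hPj, ← pow_mul, ← pow_add, Nat.add_sub_cancel' (by omega)]
  set H₀ := Q ⊔ Subgroup.zpowers y with hH₀
  have hH₀U : H₀ ≤ stabilizer ρ U₁ :=
    sup_le (fun c hc => hU₁.1 c hc) (Subgroup.zpowers_le.mpr hyU)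
  let σ : H₀ →* Module.End K U₁ :=
    { toFun := fun g => (ρ g).restrict (hH₀U g.2)
      map_one' := LinearMap.ext fun u => Subtype.ext (ρ_one (u : V))
      map_mul' := fun a b => LinearMap.ext fun u => Subtype.ext (ρ_mul (a : G) b (u : V)) }
  set τ := σ.toHomUnits with hτ
  let G₁ := τ.range
  haveI : Finite G₁ := Finite.of_surjective τ.rangeRestrict τ.rangeRestrict_surjective
  let Q' := Q.subgroupOf H₀
  haveI hQ'n : Q'.Normal := (Subgroup.normal_subgroupOf_iff_le_normalizer (H := Q) le_sup_left).mpr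
    (sup_le Subgroup.le_normalizer (Subgroup.zpowers_le.mpr (pow_mem hx P)))
  let Q₁ : Subgroup G₁ := Q'.map τ.rangeRestrict
  haveI : Q₁.Normal := hQ'n.map _ τ.rangeRestrict_surjective
  have hQ₁ : IsPGroup q Q₁ := (hQ.of_equiv (Subgroup.subgroupOfEquivOfLe le_sup_left).symm).map _
  set yH : H₀ := ⟨y, Subgroup.mem_sup_right (Subgroup.mem_zpowers y)⟩ with hyH
  set zH : H₀ := yH ^ p ^ (n - 1 - j) with hzH
  set y₁ := τ.rangeRestrict yH with hy₁
  set z₁ := τ.rangeRestrict zH with hz₁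
  let ρ₁ : Representation K G₁ U₁ := (Units.coeHom (Module.End K U₁)).comp G₁.subtype
  have hρ₁inj : Function.Injective ρ₁ := fun a b h => Subtype.ext (Units.ext h)
  have hρ₁ : ∀ (g : H₀) (u : U₁), ((ρ₁ (τ.rangeRestrict g) u : U₁) : V) = ρ g u := fun g u => rfl
  have hirr : ∀ W : Submodule K U₁, (∀ g ∈ Q₁, Submodule.map (ρ₁ g) W ≤ W) → W = ⊥ ∨ W = ⊤ := by
    intro W hW
    rcases hU₁.2.2 (W.map U₁.subtype) (Submodule.map_subtype_le U₁ W) (by
      rintro c hc _ ⟨w, hw, rfl⟩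
      exact ⟨_, hW _ ⟨⟨c, Subgroup.mem_sup_left hc⟩, hc, rfl⟩ ⟨w, hw, rfl⟩, rfl⟩) with h | h
    · exact Or.inl (Submodule.map_injective_of_injective (Submodule.subtype_injective U₁) (h.trans (Submodule.map_bot _).symm))
    · right
      refine eq_top_iff.mpr fun w _ => ?_
      obtain ⟨w', hw', e⟩ := (h.ge w.2 : (w : V) ∈ W.map U₁.subtype)
      rwa [← Subtype.ext e]
  -- elements commuting with the image of `z` are scalar
  have hcen : ∀ c ∈ Q₁, Commute c z₁ → ∀ d ∈ Q₁, Commute c d := by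
    rintro _ ⟨c, hc, rfl⟩ hcz d hd
    have hle : Q₁ ≤ Subgroup.centralizer ({τ.rangeRestrict c} : Set G₁) := by
      rintro _ ⟨e, he, rfl⟩
      have h1 : (e : G) ∈ ((Subgroup.centralizer ({τ.rangeRestrict c} : Set G₁)).comap τ.rangeRestrict).map H₀.subtype := by
        refine (hgen.trans ((Subgroup.closure_le _).mpr ?_)) he
        rintro _ ⟨d, hd, rfl⟩
        set dH : H₀ := ⟨d, Subgroup.mem_sup_left hd⟩ with hdH
        refine ⟨dH⁻¹ * (zH * dH * zH⁻¹), ?_, by simp [hdH, hzH, hyH, hzy]⟩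
        rw [SetLike.mem_coe, Subgroup.mem_comap, Subgroup.mem_centralizer_singleton_iff]
        set C := τ.rangeRestrict c
        set D := τ.rangeRestrict dH with hD
        have hcd : Commute ⁅C, D⁆ z₁ := by
          have : Commute ⁅c, dH⁆ zH := by
            refine Subtype.ext ?_
            have h2 := (hcomm (c : G) hc d hd).eq
            simpa [hzH, hyH, hzy, commutatorElement_def, hdH] using h2
          rw [← map_commutatorElement]
          exact this.map _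
        simp only [map_mul, map_inv, ← hD, ← hz₁]
        have h3 : C * (z₁ * D * z₁⁻¹) * C⁻¹ * (z₁ * D * z₁⁻¹)⁻¹ = C * D * C⁻¹ * D⁻¹ := by
          have h4 : z₁ * C * z₁⁻¹ = C := by rw [← hcz.eq, mul_inv_cancel_right]
          calc C * (z₁ * D * z₁⁻¹) * C⁻¹ * (z₁ * D * z₁⁻¹)⁻¹
              = (z₁ * C * z₁⁻¹) * (z₁ * D * z₁⁻¹) * (z₁ * C * z₁⁻¹)⁻¹ * (z₁ * D * z₁⁻¹)⁻¹ := by rw [h4]
            _ = z₁ * ⁅C, D⁆ * z₁⁻¹ := by rw [commutatorElement_def]; group
            _ = C * D * C⁻¹ * D⁻¹ := by rw [← hcd.eq, mul_inv_cancel_right, commutatorElement_def]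
        set D' := z₁ * D * z₁⁻¹
        have h5 : C⁻¹ * D'⁻¹ * D * C = D'⁻¹ * D := by
          have := congrArg (fun g => D'⁻¹ * C⁻¹ * 1 * g * D * C) h3
          calc C⁻¹ * D'⁻¹ * D * C = D'⁻¹ * (D' * C⁻¹ * D'⁻¹) * D * C := by group
            _ = D'⁻¹ * (C⁻¹ * (C * D' * C⁻¹ * D'⁻¹)) * D * C := by group
            _ = D'⁻¹ * (C⁻¹ * (C * D * C⁻¹ * D⁻¹)) * D * C := by rw [h3]
            _ = D'⁻¹ * D := by group
        have h6 : Commute (D'⁻¹ * D) C := by
          show D'⁻¹ * D * C = C * (D'⁻¹ * D)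
          conv_rhs => rw [← h5]
          group
        have h7 := h6.inv_left
        rw [mul_inv_rev, inv_inv] at h7
        exact h7.eq
      obtain ⟨e', he', hee⟩ := h1
      rw [Subtype.ext hee] at he'
      exact he'
    exact (Subgroup.mem_centralizer_singleton_iff.mp (hle hd)).symm
  have hscal : ∀ c ∈ Q₁, Commute c z₁ → c ∈ Subgroup.center G₁ := by
    intro c hc hcz
    obtain ⟨a, ha⟩ := PLocal.QDim.schur (fun g : Q₁ => ρ₁ g)
      (fun W hW => hirr W fun g hg => by rintro _ ⟨w, hw, rfl⟩; exact hW ⟨g, hg⟩ w hw)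
      (ρ₁ c) fun g => by rw [← map_mul, ← map_mul, (hcen c hc hcz g g.2).eq]
    exact Subgroup.mem_center_iff.mpr fun g => hρ₁inj (by
      rw [map_mul, map_mul, ha, mul_smul_comm, smul_mul_assoc, mul_one, one_mul])
  have hQ₁ne : Q₁ ≠ ⊥ := by
    intro h
    refine hU₁.2.1 ((Submodule.eq_bot_iff _).mpr fun u hu => hfix₁ u hu fun c hc => ?_)
    have h1 : τ.rangeRestrict ⟨c, Subgroup.mem_sup_left hc⟩ = 1 :=
      (Subgroup.eq_bot_iff_forall _).mp h _ ⟨_, hc, rfl⟩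
    have h2 := hρ₁ ⟨c, Subgroup.mem_sup_left hc⟩ ⟨u, hu⟩
    rw [h1, map_one] at h2
    exact h2.symm
  have hz₁1 : z₁ ≠ 1 := by
    intro h
    refine hQ₁ne (eq_bot_iff.mpr ?_)
    rintro _ ⟨e, he, rfl⟩
    have h1 : (e : G) ∈ τ.rangeRestrict.ker.map H₀.subtype := by
      refine (hgen.trans ((Subgroup.closure_le _).mpr ?_)) he
      rintro _ ⟨d, hd, rfl⟩
      set dH : H₀ := ⟨d, Subgroup.mem_sup_left hd⟩ with hdH
      refine ⟨dH⁻¹ * (zH * dH * zH⁻¹), ?_, by simp [hdH, hzH, hyH, hzy]⟩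
      rw [SetLike.mem_coe, MonoidHom.mem_ker, map_mul, map_mul, map_mul, map_inv, map_inv, ← hz₁, h]
      group
    obtain ⟨e', he', hee⟩ := h1
    rw [Subtype.ext hee] at he'
    exact Subgroup.mem_bot.mpr he'
  have hz₁y : z₁ = y₁ ^ p ^ (n - 1 - j) := map_pow _ _ _
  have hy₁o : orderOf y₁ = p ^ (n - 1 - j + 1) := by
    refine orderOf_eq_prime_pow (fun h => hz₁1 (by rw [hz₁y, h])) ?_
    rw [hy₁, ← map_pow, show n - 1 - j + 1 = n - j by omega]
    rw [show yH ^ p ^ (n - j) = 1 from Subtype.ext hyo, map_one]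
  have hsup : Q₁ ⊔ Subgroup.zpowers y₁ = ⊤ := by
    rw [hy₁, ← MonoidHom.map_zpowers, ← Subgroup.map_sup, ← MonoidHom.range_eq_top.mpr τ.rangeRestrict_surjective,
      MonoidHom.range_eq_map]
    congr 1
    apply Subgroup.map_injective H₀.subtype_injective
    rw [Subgroup.map_sup, Subgroup.subgroupOf_map_subtype, MonoidHom.map_zpowers, ← MonoidHom.range_eq_map,
      Subgroup.range_subtype, inf_eq_left.mpr le_sup_left]
    rfl
  have hC : ∀ w ∈ Subgroup.zpowers y₁, w ≠ 1 →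
      Subgroup.centralizer ({w} : Set G₁) = Subgroup.zpowers y₁ ⊔ Subgroup.center G₁ := by
    intro w hw hw1
    refine le_antisymm (fun g hg => ?_) (sup_le (fun g hg => ?_) (Subgroup.center_le_centralizer _))
    · have hzw : z₁ ∈ Subgroup.zpowers w := by
        obtain ⟨i, hi⟩ := mem_powers_iff_mem_zpowers.mpr hw
        simp only at hi
        obtain ⟨k, -, hk⟩ := (Nat.dvd_prime_pow hp).mp (show orderOf w ∣ p ^ (n - 1 - j + 1) from
          hy₁o ▸ hi ▸ orderOf_pow_dvd i)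
        have hk0 : k ≠ 0 := fun e => hw1 (orderOf_eq_one_iff.mp (by rw [hk, e, pow_zero]))
        set v := w ^ p ^ (k - 1) with hv
        have hv' : v ∈ Subgroup.zpowers z₁ := by
          have h1 : (y₁ ^ i) ^ (p ^ (k - 1) * p) = 1 := by
            rw [hi, ← pow_succ, Nat.sub_add_cancel (Nat.pos_of_ne_zero hk0), ← hk, pow_orderOf_eq_one]
          rw [← pow_mul] at h1
          have h2 := orderOf_dvd_of_pow_eq_one h1
          rw [hy₁o, pow_succ, ← mul_assoc] at h2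
          obtain ⟨m, hm⟩ := Nat.dvd_of_mul_dvd_mul_right hp.pos h2
          rw [hv, ← hi, ← pow_mul, hm, pow_mul, ← hz₁y]
          exact pow_mem (Subgroup.mem_zpowers z₁) m
        have hvo : orderOf v = p := by
          refine orderOf_eq_prime ?_ fun e => ?_
          · rw [hv, ← pow_mul, ← pow_succ, Nat.sub_add_cancel (Nat.pos_of_ne_zero hk0), ← hk, pow_orderOf_eq_one]
          · have := Nat.le_of_dvd (pow_pos hp.pos _) (orderOf_dvd_of_pow_eq_one e)
            rw [hk] at this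
            have := (Nat.pow_le_pow_iff_right hp.one_lt).mp this
            omega
        have hzo : orderOf z₁ = p := orderOf_eq_prime (by
          rw [hz₁y, ← pow_mul, ← pow_succ, ← hy₁o, pow_orderOf_eq_one]) hz₁1
        have hsub : Subgroup.zpowers v = Subgroup.zpowers z₁ :=
          Subgroup.eq_of_le_of_card_ge (Subgroup.zpowers_le.mpr hv') (by rw [Nat.card_zpowers, Nat.card_zpowers, hvo, hzo])
        exact (Subgroup.zpowers_le.mpr (pow_mem (Subgroup.mem_zpowers w) _)) (hsub ▸ Subgroup.mem_zpowers z₁)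
      obtain ⟨a, ha, b, hb, rfl⟩ := Subgroup.mem_sup_of_normal_left.mp (hsup ▸ Subgroup.mem_top g : g ∈ Q₁ ⊔ Subgroup.zpowers y₁)
      have hbw : Commute b w := by
        obtain ⟨i, rfl⟩ := Subgroup.mem_zpowers_iff.mp hb
        obtain ⟨k, rfl⟩ := Subgroup.mem_zpowers_iff.mp hw
        exact Commute.zpow_zpow_self _ _ _
      have haw : Commute a w := by
        have h1 : Commute (a * b) w := Subgroup.mem_centralizer_singleton_iff.mp hg
        simpa using h1.mul_left hbw.inv_left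
      refine Subgroup.mul_mem _ (Subgroup.mem_sup_right (hscal a ha ?_)) (Subgroup.mem_sup_left hb)
      obtain ⟨k, hk⟩ := Subgroup.mem_zpowers_iff.mp hzw
      exact hk ▸ haw.zpow_right k
    · obtain ⟨i, rfl⟩ := Subgroup.mem_zpowers_iff.mp hg
      obtain ⟨k, rfl⟩ := Subgroup.mem_zpowers_iff.mp hw
      exact Subgroup.mem_centralizer_singleton_iff.mpr (Commute.zpow_zpow_self _ _ _).eq
  have hyY : ρ₁ y₁ = Y := rfl
  obtain ⟨h1, -, h3⟩ := S4282.result p q hpq Q₁ hQ₁ y₁ (IsPGroup.of_card (n := n - 1 - j + 1) (by rw [Nat.card_zpowers, hy₁o]))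
    hsup hC ρ₁ hρ₁inj hirr s (by rw [hyY]; exact hs) (by rw [hyY]; exact hmin)
  rw [Nat.card_zpowers, hy₁o] at h1 h3
  rcases le_or_gt (p ^ (n - 1 - j + 1)) s with hle | hlt
  · refine Or.inl (le_trans ?_ hbound)
    calc p ^ n = p ^ j * p ^ (n - 1 - j + 1) := by rw [← pow_add]; congr 1; omega
      _ ≤ p ^ j * s := Nat.mul_le_mul_left _ hle
  obtain ⟨⟨b, hb⟩, hnab⟩ := h3 (by omega)
  refine Or.inr ⟨n - j, b, by omega, by omega, ?_, ?_, ?_, ?_⟩
  · refine Nat.pos_of_ne_zero fun hb0 => hz₁1 ?_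
    rw [hb0, pow_zero] at hb
    have hs1 : s = 1 := by omega
    rw [hs1, pow_one, sub_eq_zero, ← hyY] at hs
    rw [hz₁y, hρ₁inj (hs.trans (map_one ρ₁).symm), one_pow]
  · rw [← hb, show n - 1 - j + 1 = n - j by omega]
  · rw [show n - (n - j) = j by omega, show n - j = n - 1 - j + 1 by omega]
    exact le_trans (Nat.mul_le_mul_left _ (by omega)) hbound
  · intro hab
    exact hnab ⟨⟨fun a b => by
      obtain ⟨_, a', ha', rfl⟩ := a
      obtain ⟨_, b', hb', rfl⟩ := b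
      refine Subtype.ext (show τ.rangeRestrict a' * τ.rangeRestrict b' = τ.rangeRestrict b' * τ.rangeRestrict a' from ?_)
      rw [← map_mul, ← map_mul]
      refine congrArg τ.rangeRestrict (Subtype.ext ?_)
      exact congrArg (Subtype.val : Q → G) (hab.is_comm.comm ⟨(a' : G), ha'⟩ ⟨(b' : G), hb'⟩)⟩⟩

end Cfsg.Agent.Lib.HallHigman
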