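import Mathlib
import Cfsg.Agent.Lib.HallHigman.Bound
import Cfsg.Agent.Lib.Cores
import Cfsg.Agent.Lib.Coprime
import Cfsg.Agent.Lib.Characters.PSolvableTI

/-!
A quadratic element in the derived group of a `3`-group which acts cubically in the sense
`(a - 1) (b - 1) ^ 2 = 0` cannot occur in a `3`-soluble linear group without normal `3`-subgroup.
-/

set_option autoImplicit false

namespace Cfsg.Agent.Lib.HallHigman.DerivedThree

open Cfsg.Agent.Lib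
open scoped commutatorElement

/-- Either some product of orbit members is unique, or a single orbit covers everything. -/
theorem unique_or_small {L : Type*} [Group L] (C : Subgroup L) (hC : ∀ x ∈ C, ∀ y ∈ C, x * y = y * x)
    (s : L) (hs3 : s ^ 3 = 1) (hsC : ∀ x ∈ C, s * x * s⁻¹ ∈ C)
    (hfix : ∀ x ∈ C, s * x * s⁻¹ = x → x = 1) (h3 : ∀ x ∈ C, x ^ 3 = 1 → x = 1)
    (hne : ∃ x ∈ C, x ≠ 1) :
    (∃ x ∈ C, ∃ y ∈ C, ∀ i j : Fin 3, (i, j) ≠ (0, 0) →
      s ^ (i : ℕ) * x * (s ^ (i : ℕ))⁻¹ * (s ^ (j : ℕ) * y * (s ^ (j : ℕ))⁻¹) ≠ x * y) ∨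
    ∃ x ∈ C, x ≠ 1 ∧ ∀ y ∈ C, y = 1 ∨ ∃ i : ℕ, y = s ^ i * x * (s ^ i)⁻¹ := by
  set σ : L →* L := (MulAut.conj s).toMonoidHom with hσdef
  have hσ : ∀ z, σ z = s * z * s⁻¹ := fun z => rfl
  have hσC : ∀ z ∈ C, σ z ∈ C := hsC
  have hσ2 : ∀ z, σ (σ z) = s ^ 2 * z * (s ^ 2)⁻¹ := fun z => by
    simp only [hσ, pow_two, mul_inv_rev, mul_assoc]
  have hσ3 : ∀ z, σ (σ (σ z)) = z := fun z => by
    rw [hσ, hσ, hσ, show s * (s * (s * z * s⁻¹) * s⁻¹) * s⁻¹ = s ^ 3 * z * (s ^ 3)⁻¹ by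
      simp only [pow_three, mul_inv_rev, mul_assoc], hs3,
      one_mul, inv_one, mul_one]
  have hf1 : ∀ z ∈ C, σ z = z → z = 1 := hfix
  have hf2 : ∀ z ∈ C, σ (σ z) = z → z = 1 := fun z hz e => hfix z hz
    (show σ z = z by conv_lhs => rw [← e, hσ3])
  letI : CommGroup C := { (inferInstance : Group C) with
    mul_comm := fun u v => Subtype.ext (hC _ u.2 _ v.2) }
  have hsum : ∀ z ∈ C, z * σ z * σ (σ z) = 1 := fun z hz => by
    refine hf1 _ (C.mul_mem (C.mul_mem hz (hσC _ hz)) (hσC _ (hσC _ hz))) ?_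
    rw [map_mul, map_mul, hσ3]
    have := congrArg Subtype.val (mul_comm ((⟨_, hσC _ hz⟩ : C) * ⟨_, hσC _ (hσC _ hz)⟩) ⟨z, hz⟩)
    simpa [mul_assoc] using this
  have hval : ∀ (i : Fin 3) (z : L), s ^ (i : ℕ) * z * (s ^ (i : ℕ))⁻¹ =
      if i = 0 then z else if i = 1 then σ z else σ (σ z) := by
    intro i z
    fin_cases i
    · simp
    · simp [hσ]
    · simp [hσ2]
  by_cases hsq : ∃ x ∈ C, x * x ≠ 1
  · obtain ⟨x, hx, hx2⟩ := hsq
    have hx1 : x ≠ 1 := fun e => hx2 (by rw [e, one_mul])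
    refine Or.inl ⟨x, hx, x, hx, fun i j hij e => ?_⟩
    rw [hval, hval] at e
    have hprod : σ x * σ (σ x) = x⁻¹ := eq_inv_of_mul_eq_one_right (by rw [← mul_assoc]; exact hsum x hx)
    have hc3 : x⁻¹ = x * x → False := fun h => hx1 (h3 x hx (by
      rw [pow_three, ← h, mul_inv_cancel]))
    fin_cases i <;> fin_cases j <;> simp at e hij
    · exact hx1 (hf1 x hx e)
    · exact hx1 (hf2 x hx e)
    · exact hx1 (hf1 x hx e)
    · exact hx2 (hf1 _ (C.mul_mem hx hx) (by rw [map_mul]; exact e))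
    · exact hc3 (hprod.symm.trans e)
    · exact hx1 (hf2 x hx e)
    · exact hc3 (hprod.symm.trans ((hC _ (hσC _ hx) _ (hσC _ (hσC _ hx))).trans e))
    · exact hx2 (hf2 _ (C.mul_mem hx hx) (by rw [map_mul, map_mul]; exact e))
  push_neg at hsq
  obtain ⟨x, hx, hx1⟩ := hne
  by_cases hy : ∃ y ∈ C, y ≠ 1 ∧ ∀ i : ℕ, y ≠ s ^ i * x * (s ^ i)⁻¹
  · obtain ⟨y, hy, hy1, hyo⟩ := hy
    refine Or.inl ⟨x, hx, y, hy, fun i j hij e => ?_⟩
    rw [hval, hval] at e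
    have hne1 : x * y ≠ 1 := fun h => hyo 0 (by
      rw [pow_zero, one_mul, inv_one, mul_one]
      exact ((eq_inv_of_mul_eq_one_right h).trans (inv_eq_of_mul_eq_one_right (hsq x hx))))
    have hs1 : ∀ z ∈ C, σ z * σ (σ z) = z := fun z hz => by
      have h1 : σ z * σ (σ z) = z⁻¹ := eq_inv_of_mul_eq_one_right (by rw [← mul_assoc]; exact hsum z hz)
      rw [h1, inv_eq_of_mul_eq_one_right (hsq z hz)]
    have hz' : ∀ z ∈ C, σ z * z = σ (σ z) ∧ σ (σ z) * z = σ z := fun z hz => by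
      have e1 := hs1 (σ z) (hσC _ hz)
      have e2 := hs1 (σ (σ z)) (hσC _ (hσC _ hz))
      rw [hσ3] at e1 e2
      exact ⟨by rw [hC _ (hσC _ hz) _ hz]; exact e2, e1⟩
    fin_cases i <;> fin_cases j <;> simp at e hij
    · exact hy1 (hf1 y hy e)
    · exact hy1 (hf2 y hy e)
    · exact hx1 (hf1 x hx e)
    · exact hne1 (hf1 _ (C.mul_mem hx hy) (by rw [map_mul]; exact e))
    · refine hyo 1 ?_
      rw [pow_one, ← hσ]
      -- from `σ x * σ² y = x * y`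
      have h1 : σ x * x = y * σ (σ y) := by
        have e' : (⟨_, hσC _ hx⟩ : C) * ⟨_, hσC _ (hσC _ hy)⟩ = ⟨x, hx⟩ * ⟨y, hy⟩ := Subtype.ext e
        have hy2 : (⟨y, hy⟩ : C) * ⟨y, hy⟩ = 1 := Subtype.ext (hsq y hy)
        have hw2 : (⟨_, hσC _ (hσC _ hy)⟩ : C) * ⟨_, hσC _ (hσC _ hy)⟩ = 1 :=
          Subtype.ext (hsq _ (hσC _ (hσC _ hy)))
        have hx2 : (⟨x, hx⟩ : C) * ⟨x, hx⟩ = 1 := Subtype.ext (hsq x hx)
        refine congrArg Subtype.val (show (⟨_, hσC _ hx⟩ : C) * ⟨x, hx⟩ = ⟨y, hy⟩ * ⟨_, hσC _ (hσC _ hy)⟩ from ?_)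
        calc (⟨_, hσC _ hx⟩ : C) * ⟨x, hx⟩
            = (⟨_, hσC _ hx⟩ * ⟨_, hσC _ (hσC _ hy)⟩) * ⟨_, hσC _ (hσC _ hy)⟩ * ⟨x, hx⟩ := by
              rw [mul_assoc (⟨_, hσC _ hx⟩ : C), hw2, mul_one]
          _ = (⟨x, hx⟩ * ⟨x, hx⟩) * (⟨y, hy⟩ * ⟨_, hσC _ (hσC _ hy)⟩) := by rw [e']; ac_rfl
          _ = _ := by rw [hx2, one_mul]
      rw [(hz' x hx).1, hC _ hy _ (hσC _ (hσC _ hy)), (hz' y hy).2] at h1
      have h2 := congrArg (fun z => σ (σ z)) h1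
      simp only [hσ3] at h2
      exact h2.symm
    · exact hx1 (hf2 x hx e)
    · refine hyo 2 ?_
      rw [← hσ2]
      -- from `σ² x * σ y = x * y`
      have h1 : σ (σ x) * x = y * σ y := by
        have e' : (⟨_, hσC _ (hσC _ hx)⟩ : C) * ⟨_, hσC _ hy⟩ = ⟨x, hx⟩ * ⟨y, hy⟩ := Subtype.ext e
        have hw2 : (⟨_, hσC _ hy⟩ : C) * ⟨_, hσC _ hy⟩ = 1 := Subtype.ext (hsq _ (hσC _ hy))
        have hx2 : (⟨x, hx⟩ : C) * ⟨x, hx⟩ = 1 := Subtype.ext (hsq x hx)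
        refine congrArg Subtype.val (show (⟨_, hσC _ (hσC _ hx)⟩ : C) * ⟨x, hx⟩ = ⟨y, hy⟩ * ⟨_, hσC _ hy⟩ from ?_)
        calc (⟨_, hσC _ (hσC _ hx)⟩ : C) * ⟨x, hx⟩
            = (⟨_, hσC _ (hσC _ hx)⟩ * ⟨_, hσC _ hy⟩) * ⟨_, hσC _ hy⟩ * ⟨x, hx⟩ := by
              rw [mul_assoc (⟨_, hσC _ (hσC _ hx)⟩ : C), hw2, mul_one]
          _ = (⟨x, hx⟩ * ⟨x, hx⟩) * (⟨y, hy⟩ * ⟨_, hσC _ hy⟩) := by rw [e']; ac_rfl
          _ = _ := by rw [hx2, one_mul]
      rw [(hz' x hx).2, hC _ hy _ (hσC _ hy), (hz' y hy).1] at h1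
      have h2 := congrArg σ h1
      rw [hσ3] at h2
      exact h2.symm
    · exact hne1 (hf2 _ (C.mul_mem hx hy) (by rw [map_mul, map_mul]; exact e))
  · push_neg at hy
    exact Or.inr ⟨x, hx, hx1, fun y hyC => or_iff_not_imp_left.mpr (hy y hyC)⟩

variable {K : Type*} [Field K] {V : Type*} [AddCommGroup V] [Module K V]
  {H : Type*} [Group H] {ρ : H →* Module.End K V}

theorem ρ_mul (g h : H) (v : V) : ρ (g * h) v = ρ g (ρ h v) := by rw [map_mul]; rfl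

theorem ρ_one (v : V) : ρ 1 v = v := by rw [map_one]; rfl

/-- Three weight vectors in arithmetic progression have equal weights. -/
theorem weight_eq (S : Subgroup H) (b : H) (hb : ∀ f ∈ S, b⁻¹ * f * b ∈ S) (hb' : ∀ f ∈ S, b * f * b⁻¹ ∈ S)
    (χ : H → K) (x : V) (hx0 : x ≠ 0) (hχ : ∀ f ∈ S, ρ f x = χ f • x)
    (h20 : (2 : K) ≠ 0) (hrel : ρ (b * b) x - (2 : K) • ρ b x + x = 0) : ∀ f ∈ S, χ (b⁻¹ * f * b) = χ f := by
  have h1 : ∀ f ∈ S, ρ f (ρ b x) = χ (b⁻¹ * f * b) • ρ b x := fun f hf => by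
    rw [← ρ_mul, show f * b = b * (b⁻¹ * f * b) by group, ρ_mul, hχ _ (hb f hf), map_smul]
  have h2 : ∀ f ∈ S, ρ f (ρ (b * b) x) = χ (b⁻¹ * (b⁻¹ * f * b) * b) • ρ (b * b) x := fun f hf => by
    rw [← ρ_mul, show f * (b * b) = b * b * (b⁻¹ * (b⁻¹ * f * b) * b) by group, ρ_mul, hχ _ (hb _ (hb f hf)),
      map_smul]
  have hx1 : ρ b x ≠ 0 := fun e => hx0 (by
    have := congrArg (ρ b⁻¹) e
    rwa [← ρ_mul, inv_mul_cancel, ρ_one, map_zero] at this)
  have hx2 : ρ (b * b) x = (2 : K) • ρ b x - x := by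
    rw [← sub_eq_zero]; rw [← hrel]; abel
  by_cases hall : ∀ f ∈ S, χ (b⁻¹ * (b⁻¹ * f * b) * b) = χ (b⁻¹ * f * b)
  · intro f hf
    have := hall _ (hb' f hf)
    rwa [show b⁻¹ * (b * f * b⁻¹) * b = f by group] at this
  push_neg at hall
  obtain ⟨f, hf, hne⟩ := hall
  intro g hg
  have h3 : (2 * (χ (b⁻¹ * (b⁻¹ * f * b) * b) - χ (b⁻¹ * f * b))) • ρ b x =
      (χ (b⁻¹ * (b⁻¹ * f * b) * b) - χ f) • x := by
    have e := h2 f hf
    rw [hx2, map_sub, map_smul, h1 f hf, hχ f hf, smul_sub] at e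
    rw [← sub_eq_zero] at e ⊢
    rw [← neg_eq_zero, ← e]
    module
  set c := 2 * (χ (b⁻¹ * (b⁻¹ * f * b) * b) - χ (b⁻¹ * f * b))
  have h4 : c • ρ g (ρ b x) = χ g • (c • ρ b x) := by
    rw [← map_smul, h3, map_smul, hχ g hg, smul_comm]
  rw [h1 g hg, smul_comm (χ g), ← sub_eq_zero, ← smul_sub, ← sub_smul, smul_smul, smul_eq_zero] at h4
  rcases h4 with h4 | h4
  · rcases mul_eq_zero.mp h4 with h5 | h5
    · exact absurd h5 (mul_ne_zero h20 (sub_ne_zero.mpr hne))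
    · exact sub_eq_zero.mp h5
  · exact absurd h4 hx1

theorem three_eq_zero [CharP K 3] : (3 : K) = 0 := by
  exact_mod_cast CharP.cast_eq_zero K 3

/-- The norm of conjugation by a quadratic element of order three. -/
theorem orbit_sum [CharP K 3] {a : H} (ha3 : a ^ 3 = 1) (hn : (ρ a - 1) ^ 2 = 0) (g : H) :
    ∑ i : Fin 3, ρ (a ^ (i : ℕ) * g * (a ^ (i : ℕ))⁻¹) = (ρ a - 1) * ρ g * (ρ a - 1) := by
  set n := ρ a - 1 with hndef
  have hnn : n * n = 0 := by rw [← pow_two]; exact hn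
  have hT : ρ a = 1 + n := by rw [hndef]; abel
  have hTinv : ρ a⁻¹ = 1 - n := by
    calc ρ a⁻¹ = ρ a⁻¹ * ((1 + n) * (1 - n)) := by
          rw [show (1 + n) * (1 - n) = 1 - n * n by noncomm_ring, hnn, sub_zero, mul_one]
      _ = 1 - n := by rw [← mul_assoc, ← hT, ← map_mul, inv_mul_cancel, map_one, one_mul]
  have h2 : ∀ m : Module.End K V, m * m = 0 → (1 + m) * (1 + m) = 1 + 2 • m := fun m hm => by
    rw [show (1 + m) * (1 + m) = 1 + 2 • m + m * m by noncomm_ring, hm, add_zero]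
  have h2' : (1 - n) * (1 - n) = 1 - 2 • n := by
    rw [show (1 - n) * (1 - n) = 1 - 2 • n + n * n by noncomm_ring, hnn, add_zero]
  rw [Fin.sum_univ_three]
  simp only [Fin.val_zero, Fin.val_one, Fin.val_two, pow_zero, pow_one, one_mul, inv_one, mul_one, map_mul,
    pow_two, mul_inv_rev]
  rw [hTinv, hT, h2 n hnn, h2']
  rw [show ρ g + (1 + n) * ρ g * (1 - n) + (1 + 2 • n) * ρ g * (1 - 2 • n) =
    n * ρ g * n + 3 • (ρ g + n * ρ g - ρ g * n - 2 • (n * ρ g * n)) by noncomm_ring]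
  rw [add_eq_left, ← Nat.cast_smul_eq_nsmul K, Nat.cast_ofNat, three_eq_zero, zero_smul]

/-- No element of the derived group of a `3`-group is quadratic under the cubic relation. -/
theorem no_three [IsAlgClosed K] [CharP K 3] [FiniteDimensional K V] [Finite H]
    (hsol : Cfsg.IsPSolvable 3 H) (hOp : Cfsg.pCore 3 H = ⊥) (hρ : Function.Injective ρ)
    (B : Subgroup H) (hB : IsPGroup 3 B) (a : H) (ha : a ∈ ⁅B, B⁆) (hac : ∀ b ∈ B, Commute b a)
    (ha3 : a ^ 3 = 1) (ha1 : a ≠ 1) (hn : (ρ a - 1) ^ 2 = 0)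
    (hb : ∀ b ∈ B, (ρ a - 1) * (ρ b - 1) ^ 2 = 0) : False := by
  classical
  haveI : Fact (Nat.Prime 3) := ⟨Nat.prime_three⟩
  have haB : a ∈ B := Subgroup.commutator_le_self B ha
  set F := Cfsg.pPrimeCore 3 H with hF
  haveI : F.Normal := by rw [hF]; infer_instance
  have hcopF : (Nat.card F).Coprime 3 := Cores.pPrimeCore_coprime 3 H
  have hzF : ¬ ∀ c ∈ F, Commute c a := fun h => ha1 (by
    have h1 : a ∈ F := Characters.centralizer_pPrimeCore_le_of_pCore_eq_bot 3 hsol hOp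
      (Subgroup.mem_centralizer_iff.mpr fun c hc => (h c hc).eq)
    have h2 : (orderOf a).Coprime 3 := hcopF.coprime_dvd_left
      (by rw [← Nat.card_zpowers]; exact Subgroup.card_dvd_of_le (Subgroup.zpowers_le.mpr h1))
    exact orderOf_eq_one_iff.mp (Nat.eq_one_of_dvd_coprimes h2 dvd_rfl (orderOf_dvd_of_pow_eq_one ha3)))
  have hcop : (Nat.card B).Coprime (Nat.card F) := by
    obtain ⟨k, hk⟩ := IsPGroup.iff_card.mp hB
    rw [hk]; exact (hcopF.pow_right k).symm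
  haveI : Group.IsNilpotent B := hB.isNilpotent
  obtain ⟨q, hq, hS⟩ : ∃ (q : ℕ) (_ : Fact q.Prime),
      ∃ Q : Subgroup H, Q ≤ F ∧ IsPGroup q Q ∧ (∀ b ∈ B, ∀ c ∈ Q, b * c * b⁻¹ ∈ Q) ∧ ¬ ∀ c ∈ Q, Commute c a := by
    by_contra hall
    push_neg at hall
    refine hzF fun c hc => ?_
    have hle : F ≤ F ⊓ Subgroup.centralizer ({a} : Set H) := by
      have hd : Nat.card F ∣ Nat.card ↥(F ⊓ Subgroup.centralizer ({a} : Set H)) := by
        refine (Nat.dvd_iff_prime_pow_dvd_dvd _ _).mpr fun q m hq hm => ?_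
        haveI := Fact.mk hq
        obtain ⟨P, hP⟩ := Coprime.exists_invariant_sylow (A := B) (K := F)
          Subgroup.le_normalizer_of_normal hcop (Or.inl inferInstance) q
        refine dvd_trans ?_ (Subgroup.card_dvd_of_le (show (P : Subgroup F).map F.subtype ≤
          F ⊓ Subgroup.centralizer ({a} : Set H) from le_inf (Subgroup.map_subtype_le _) fun c hc => ?_))
        · rw [Subgroup.card_map_of_injective F.subtype_injective, P.card_eq_multiplicity]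
          exact pow_dvd_pow q ((hq.pow_dvd_iff_le_factorization Nat.card_pos.ne').mp hm)
        · exact Subgroup.mem_centralizer_singleton_iff.mpr (hall q (Fact.mk hq) _
            (Subgroup.map_subtype_le _) (P.isPGroup'.map _)
            (fun b hb c hc => (Subgroup.mem_normalizer_iff.mp (hP hb) c).mp hc) c hc).eq
      exact (Subgroup.eq_of_le_of_card_ge inf_le_left (Nat.le_of_dvd Nat.card_pos hd)).ge
    exact Subgroup.mem_centralizer_singleton_iff.mp (hle hc).2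
  obtain ⟨Q, ⟨hQF, hQq, hBQ, hQa⟩, hmin⟩ := Set.Finite.exists_minimal
    (s := {Q : Subgroup H | Q ≤ F ∧ IsPGroup q Q ∧ (∀ b ∈ B, ∀ c ∈ Q, b * c * b⁻¹ ∈ Q) ∧
      ¬ ∀ c ∈ Q, Commute c a}) (Set.toFinite _) hS
  have hQ0 : Q ≠ ⊥ := fun e => hQa fun c hc => by
    rw [e, Subgroup.mem_bot] at hc; rw [hc]; exact Commute.one_left a
  have hQ3 : (Nat.card Q).Coprime 3 := hcopF.coprime_dvd_left (Subgroup.card_dvd_of_le hQF)
  have hcube : ∀ e ∈ Q, e ^ 3 = 1 → e = 1 := fun e he h => orderOf_eq_one_iff.mp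
    (Nat.eq_one_of_dvd_coprimes hQ3 (by
      rw [← Nat.card_zpowers]; exact Subgroup.card_dvd_of_le (Subgroup.zpowers_le.mpr he))
      (orderOf_dvd_of_pow_eq_one h))
  have hcent : ∀ W ≤ Q, W ≠ Q → (∀ b ∈ B, ∀ c ∈ W, b * c * b⁻¹ ∈ W) → ∀ c ∈ W, Commute c a := by
    intro W hW hne hBW
    by_contra hnot
    exact hne (le_antisymm hW (hmin (y := W) ⟨hW.trans hQF, hQq.to_le hW, hBW, hnot⟩ hW))
  have haQ : ∀ c ∈ Q, a * c * a⁻¹ ∈ Q := hBQ a haB
  have haQ' : ∀ c ∈ Q, a⁻¹ * c * a ∈ Q := fun c hc => by simpa using hBQ a⁻¹ (inv_mem haB) c hc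
  -- fixed points modulo fixed points are fixed
  have hfpf : ∀ d ∈ Q, Commute (d⁻¹ * (a * d * a⁻¹)) a → Commute d a := by
    intro d hd hez
    set e := d⁻¹ * (a * d * a⁻¹) with he
    have hk : ∀ k : ℕ, a ^ k * d * (a ^ k)⁻¹ = d * e ^ k := by
      intro k
      induction k with
      | zero => simp
      | succ k ih =>
        calc a ^ (k + 1) * d * (a ^ (k + 1))⁻¹ = a * (a ^ k * d * (a ^ k)⁻¹) * a⁻¹ := by rw [pow_succ']; group
          _ = (a * d * a⁻¹) * (a * e ^ k * a⁻¹) := by rw [ih]; group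
          _ = d * e * e ^ k := by
            rw [show a * e ^ k * a⁻¹ = e ^ k by rw [← (hez.pow_left k).eq, mul_inv_cancel_right], he]; group
          _ = d * e ^ (k + 1) := by rw [mul_assoc, ← pow_succ']
    have hep := hk 3
    rw [ha3, one_mul, inv_one, mul_one, left_eq_mul] at hep
    have he1 : e = 1 := hcube e (Q.mul_mem (Q.inv_mem hd) (haQ d hd)) hep
    rw [he, inv_mul_eq_one, eq_mul_inv_iff_mul_eq] at he1
    exact he1
  have hgen : Q ≤ Subgroup.closure {g | ∃ d ∈ Q, g = d⁻¹ * (a * d * a⁻¹)} := by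
    by_contra hle
    set S := {g | ∃ d ∈ Q, g = d⁻¹ * (a * d * a⁻¹)} with hS'
    have hSQ : Subgroup.closure S ≤ Q := (Subgroup.closure_le _).mpr (by
      rintro _ ⟨d, hd, rfl⟩
      exact Q.mul_mem (Q.inv_mem hd) (haQ d hd))
    have hBS : ∀ b ∈ B, ∀ g ∈ Subgroup.closure S, b * g * b⁻¹ ∈ Subgroup.closure S := by
      intro b hb g hg
      have h1 : Subgroup.closure S ≤ (Subgroup.closure S).comap (MulAut.conj b).toMonoidHom := by
        refine (Subgroup.closure_le _).mpr ?_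
        rintro _ ⟨d, hd, rfl⟩
        refine Subgroup.subset_closure ⟨b * d * b⁻¹, hBQ b hb d hd, ?_⟩
        show b * (d⁻¹ * (a * d * a⁻¹)) * b⁻¹ = _
        calc b * (d⁻¹ * (a * d * a⁻¹)) * b⁻¹ = b * d⁻¹ * b⁻¹ * (b * a) * d * (b * a)⁻¹ := by group
          _ = b * d⁻¹ * b⁻¹ * (a * b) * d * (a * b)⁻¹ := by rw [(hac b hb).eq]
          _ = (b * d * b⁻¹)⁻¹ * (a * (b * d * b⁻¹) * a⁻¹) := by group
      exact h1 hg
    have hcz := hcent _ hSQ (fun e => hle e.ge) hBS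
    exact hQa fun d hd => hfpf d hd (hcz _ (Subgroup.subset_closure ⟨d, hd, rfl⟩))
  have hcomm : ∀ c ∈ Q, ∀ d ∈ Q, Commute ⁅c, d⁆ a := fun c hc d hd => by
    haveI : Group.IsNilpotent Q := hQq.isNilpotent
    haveI : Nontrivial Q := Q.nontrivial_iff_ne_bot.mpr hQ0
    refine hcent ⁅Q, Q⁆ (Subgroup.commutator_le_self Q) (fun e => ?_) (fun b hb g hg => ?_) _
      (Subgroup.commutator_mem_commutator hc hd)
    · refine (Group.IsSolvable.commutator_lt_top_of_nontrivial Q).ne ?_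
      apply Subgroup.map_injective Q.subtype_injective
      rw [Subgroup.map_subtype_commutator, e, ← MonoidHom.range_eq_map, Subgroup.range_subtype]
    have h1 : (⁅Q, Q⁆).map (MulAut.conj b).toMonoidHom ≤ ⁅Q, Q⁆ := by
      rw [Subgroup.map_commutator]
      have : Q.map (MulAut.conj b).toMonoidHom ≤ Q := by rintro _ ⟨c, hc, rfl⟩; exact hBQ b hb c hc
      exact Subgroup.commutator_mono this this
    exact h1 ⟨g, hg, rfl⟩
  set Φ := Q ⊓ Subgroup.centralizer ({a} : Set H) with hΦdef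
  have hΦmem : ∀ f, f ∈ Φ ↔ f ∈ Q ∧ Commute f a := fun f => by
    rw [hΦdef, Subgroup.mem_inf, Subgroup.mem_centralizer_singleton_iff]; rfl
  have hΦz : ∀ f ∈ Φ, ∀ c ∈ Q, f * c = c * f := by
    intro f hf
    obtain ⟨hfQ, hfa⟩ := (hΦmem f).mp hf
    suffices h : Q ≤ Subgroup.centralizer ({f} : Set H) from
      fun c hc => (Subgroup.mem_centralizer_singleton_iff.mp (h hc)).symm
    refine hgen.trans ((Subgroup.closure_le _).mpr ?_)
    rintro _ ⟨d, hd, rfl⟩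
    set k := ⁅f, d⁆ with hk
    have hka : a * k * a⁻¹ = k := by rw [← (hcomm f hfQ d hd).eq, mul_inv_cancel_right]
    have hfa' : a * f * a⁻¹ = f := by rw [← hfa.eq, mul_inv_cancel_right]
    have e1 : f * d * f⁻¹ = k * d := by rw [hk, commutatorElement_def]; group
    have e2 : f * (a * d * a⁻¹) * f⁻¹ = k * (a * d * a⁻¹) := by
      calc f * (a * d * a⁻¹) * f⁻¹ = (a * f * a⁻¹) * (a * d * a⁻¹) * (a * f * a⁻¹)⁻¹ := by rw [hfa']
        _ = a * (f * d * f⁻¹) * a⁻¹ := by group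
        _ = a * (k * d) * a⁻¹ := by rw [e1]
        _ = (a * k * a⁻¹) * (a * d * a⁻¹) := by group
        _ = _ := by rw [hka]
    refine Subgroup.mem_centralizer_singleton_iff.mpr ?_
    symm
    rw [← mul_inv_eq_iff_eq_mul]
    calc f * (d⁻¹ * (a * d * a⁻¹)) * f⁻¹ = (f * d * f⁻¹)⁻¹ * (f * (a * d * a⁻¹) * f⁻¹) := by group
      _ = _ := by rw [e1, e2]; group
  have hΦB : ∀ b ∈ B, ∀ f ∈ Φ, b * f * b⁻¹ ∈ Φ := fun b hb f hf => by
    obtain ⟨hfQ, hfa⟩ := (hΦmem f).mp hf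
    exact (hΦmem _).mpr ⟨hBQ b hb f hfQ, ((hac b hb).mul_left hfa).mul_left (hac b hb).inv_left⟩
  -- a weight space
  have hQK : (Nat.card Q : K) ≠ 0 := fun h =>
    (Nat.prime_three.coprime_iff_not_dvd.mp hQ3.symm) ((CharP.cast_eq_zero_iff K 3 _).mp h)
  obtain ⟨c₀, hc₀, hc₀1⟩ := (Subgroup.bot_or_exists_ne_one Q).resolve_left hQ0
  obtain ⟨U, hU, hUfix⟩ := exists_irred (ρ := ρ) hQK hc₀ (fun e => hc₀1 (hρ (e.trans (map_one ρ).symm)))
  obtain ⟨u₀, hu₀U, hu₀⟩ := Submodule.exists_mem_ne_zero_of_ne_bot hU.2.1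
  have schur : ∀ f, (∀ u ∈ U, ρ f u ∈ U) → (∀ c ∈ Q, ∀ u ∈ U, ρ f (ρ c u) = ρ c (ρ f u)) →
      ∃ μ : K, ∀ u ∈ U, ρ f u = μ • u := by
    intro f hfU hfc
    haveI : Nontrivial U := Submodule.nontrivial_iff_ne_bot.mpr hU.2.1
    obtain ⟨μ, hμ⟩ := Module.End.exists_eigenvalue ((ρ f).restrict hfU)
    obtain ⟨v, hv, hv0⟩ := hμ.exists_hasEigenvector
    rw [Module.End.mem_eigenspace_iff] at hv
    refine ⟨μ, fun u hu => ?_⟩
    rcases hU.2.2 (U ⊓ Module.End.eigenspace (ρ f) μ) inf_le_left (fun c hc w hw => ⟨hU.1 c hc w hw.1, by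
      have := Module.End.mem_eigenspace_iff.mp hw.2
      show ρ c w ∈ Module.End.eigenspace (ρ f) μ
      rw [Module.End.mem_eigenspace_iff, hfc c hc w hw.1, this, map_smul]⟩) with h0 | h0
    · refine absurd (Subtype.ext ((Submodule.mem_bot K).mp (h0.le ⟨v.2, ?_⟩))) hv0
      exact Module.End.mem_eigenspace_iff.mpr (congrArg Subtype.val hv)
    · exact Module.End.mem_eigenspace_iff.mp (h0.ge hu).2
  have hex : ∀ f, ∃ μ : K, f ∈ Φ → ∀ u ∈ U, ρ f u = μ • u := fun f => by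
    by_cases hf : f ∈ Φ
    · obtain ⟨μ, hμ⟩ := schur f (hU.1 f hf.1) (fun c hc u _ => by rw [← ρ_mul, hΦz f hf c hc, ρ_mul])
      exact ⟨μ, fun _ => hμ⟩
    · exact ⟨0, fun h => absurd h hf⟩
  choose χ hχ using hex
  let W : Submodule K V :=
    { carrier := {w | ∀ f ∈ Φ, ρ f w = χ f • w}
      add_mem' := fun {v w} hv hw f hf => by rw [map_add, hv f hf, hw f hf, smul_add]
      zero_mem' := fun f hf => by rw [map_zero, smul_zero]
      smul_mem' := fun c v hv f hf => by rw [map_smul, hv f hf, smul_comm] }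
  have hUW : ∀ u ∈ U, u ∈ W := fun u hu f hf => hχ f hf u hu
  have hWstab : ∀ g, (∀ f ∈ Φ, f * g = g * f) → ∀ w ∈ W, ρ g w ∈ W := fun g hg w hw f hf => by
    rw [← ρ_mul, hg f hf, ρ_mul, hw f hf, map_smul]
  have hWQ : ∀ c ∈ Q, ∀ w ∈ W, ρ c w ∈ W := fun c hc => hWstab c fun f hf => hΦz f hf c hc
  have hWa : ∀ w ∈ W, ρ a w ∈ W := hWstab a fun f hf => ((hΦmem f).mp hf).2.eq
  have hWa' : ∀ w ∈ W, ρ a⁻¹ w ∈ W := hWstab a⁻¹ fun f hf => ((hΦmem f).mp hf).2.inv_right.eq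
  have h20 : (2 : K) ≠ 0 := fun h => by
    have h3 := three_eq_zero (K := K)
    have : (1 : K) = 0 := by linear_combination h3 - h
    exact one_ne_zero this
  -- `a` does not fix the weight space
  obtain ⟨w₁, hw₁W, hw₁⟩ : ∃ w ∈ W, (ρ a - 1) w ≠ 0 := by
    by_contra hall
    push_neg at hall
    have hfixW : ∀ w ∈ W, ρ a w = w := fun w hw => sub_eq_zero.mp (hall w hw)
    have hfixW' : ∀ w ∈ W, ρ a⁻¹ w = w := fun w hw => by
      conv_lhs => rw [← hfixW w hw]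
      rw [← ρ_mul, inv_mul_cancel, ρ_one]
    have htriv : ∀ c ∈ Q, ∀ u ∈ U, ρ c u = u := by
      intro c hc u hu
      induction hgen hc using Subgroup.closure_induction generalizing u with
      | mem g hg =>
        obtain ⟨d, hd, rfl⟩ := hg
        rw [ρ_mul, ρ_mul, ρ_mul, hfixW' u (hUW u hu), hfixW _ (hWQ d hd u (hUW u hu)), ← ρ_mul,
          inv_mul_cancel, ρ_one]
      | one => exact ρ_one u
      | mul g h hg hh ihg ihh =>
        have hg' : g ∈ Q := (Subgroup.closure_le _).mpr (by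
          rintro _ ⟨d, hd, rfl⟩
          exact Q.mul_mem (Q.inv_mem hd) (haQ d hd)) hg
        have hh' : h ∈ Q := (Subgroup.closure_le _).mpr (by
          rintro _ ⟨d, hd, rfl⟩
          exact Q.mul_mem (Q.inv_mem hd) (haQ d hd)) hh
        rw [ρ_mul, ihh hh' u hu, ihg hg' u hu]
      | inv g hg ih =>
        have hg' : g ∈ Q := (Subgroup.closure_le _).mpr (by
          rintro _ ⟨d, hd, rfl⟩
          exact Q.mul_mem (Q.inv_mem hd) (haQ d hd)) hg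
        conv_lhs => rw [← ih hg' u hu]
        rw [← ρ_mul, inv_mul_cancel, ρ_one]
    exact hu₀ (hUfix u₀ hu₀U fun c hc => htriv c hc u₀ hu₀U)
  -- every element of `B` fixes the weight
  have hBχ : ∀ b ∈ B, ∀ f ∈ Φ, χ (b⁻¹ * f * b) = χ f := by
    intro b hbB
    refine weight_eq (ρ := ρ) Φ b (fun f hf => by simpa using hΦB b⁻¹ (inv_mem hbB) f hf)
      (fun f hf => hΦB b hbB f hf) χ ((ρ a - 1) w₁) hw₁ (fun f hf => ?_) h20 ?_
    · exact (sub_mem (hWa w₁ hw₁W) hw₁W : (ρ a - 1) w₁ ∈ W) f hf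
    · have hcb : Commute (ρ b) (ρ a - 1) :=
        ((hac b hbB).map ρ).sub_right (Commute.one_right _)
      have h1 := LinearMap.congr_fun ((hb b hbB) ▸ ((hcb.sub_left (Commute.one_left _)).pow_left 2).eq) w₁
      simp only [Module.End.mul_apply, LinearMap.zero_apply] at h1
      rw [← h1, pow_two, map_mul]
      simp only [Module.End.mul_apply, LinearMap.sub_apply, Module.End.one_apply, map_sub, two_smul]
      abel
  have hBW : ∀ b ∈ B, ∀ w ∈ W, ρ b w ∈ W := fun b hb w hw f hf => by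
    rw [← ρ_mul, show f * b = b * (b⁻¹ * f * b) by group, ρ_mul,
      hw _ (by simpa using hΦB b⁻¹ (inv_mem hb) f hf), map_smul, hBχ b hb f hf]
  -- the radical of the commutator form
  let R : Subgroup H :=
    { carrier := {r | r ∈ Q ∧ ∀ c ∈ Q, ∀ w ∈ W, ρ (r * c) w = ρ (c * r) w}
      one_mem' := ⟨one_mem Q, fun c _ w _ => by rw [one_mul, mul_one]⟩
      mul_mem' := fun {r r'} hr hr' => ⟨Q.mul_mem hr.1 hr'.1, fun c hc w hw => by
        rw [mul_assoc, ρ_mul, hr'.2 c hc w hw, ← ρ_mul, ← mul_assoc, ρ_mul, hr.2 c hc _ (hWQ _ hr'.1 w hw),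
          ← ρ_mul, mul_assoc]⟩
      inv_mem' := fun {r} hr => ⟨Q.inv_mem hr.1, fun c hc w hw => by
        have h1 := congrArg (ρ r⁻¹) (hr.2 c hc _ (hWQ r⁻¹ (Q.inv_mem hr.1) w hw))
        rw [← ρ_mul, ← ρ_mul, ← ρ_mul, ← ρ_mul] at h1
        simpa [mul_assoc] using h1.symm⟩ }
  have hRB : ∀ b ∈ B, ∀ r ∈ R, b * r * b⁻¹ ∈ R := fun b hb r hr => ⟨hBQ b hb r hr.1, fun c hc w hw => by
    have h1 := congrArg (ρ b) (hr.2 (b⁻¹ * c * b) (by simpa using hBQ b⁻¹ (inv_mem hb) c hc) _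
      (hBW b⁻¹ (inv_mem hb) w hw))
    rw [← ρ_mul, ← ρ_mul, ← ρ_mul, ← ρ_mul] at h1
    simpa [mul_assoc] using h1⟩
  by_cases hRQ : R = Q
  · -- the action on the weight space is commutative
    have hab : ∀ c ∈ Q, ∀ d ∈ Q, ∀ w ∈ W, ρ (c * d) w = ρ (d * c) w := fun c hc d hd w hw =>
      (hRQ.ge hc).2 d hd w hw
    have hex2 : ∀ c, ∃ μ : K, c ∈ Q → ∀ u ∈ U, ρ c u = μ • u := fun c => by
      by_cases hc : c ∈ Q
      · obtain ⟨μ, hμ⟩ := schur c (hU.1 c hc) (fun d hd u hu => by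
          rw [← ρ_mul, hab c hc d hd u (hUW u hu), ρ_mul])
        exact ⟨μ, fun _ => hμ⟩
      · exact ⟨0, fun h => absurd h hc⟩
    choose ν hν using hex2
    have hν' := weight_eq (ρ := ρ) Q a haQ' haQ ν u₀ hu₀ (fun c hc => hν c hc u₀ hu₀U) h20 (by
      have h1 := LinearMap.congr_fun hn u₀
      simp only [pow_two, Module.End.mul_apply, LinearMap.sub_apply, Module.End.one_apply, map_sub,
        LinearMap.zero_apply] at h1
      rw [map_mul, Module.End.mul_apply, two_smul, ← h1]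
      abel)
    refine hu₀ (hUfix u₀ hu₀U fun c hc => ?_)
    have hstab : Subgroup.closure {g | ∃ d ∈ Q, g = d⁻¹ * (a * d * a⁻¹)} ≤
        ({ carrier := {g | ρ g u₀ = u₀}
           one_mem' := ρ_one u₀
           mul_mem' := fun {g h} (hg : ρ g u₀ = u₀) (hh : ρ h u₀ = u₀) =>
             show ρ (g * h) u₀ = u₀ by rw [ρ_mul, hh, hg]
           inv_mem' := fun {g} (hg : ρ g u₀ = u₀) => show ρ g⁻¹ u₀ = u₀ by
             conv_lhs => rw [← hg]
             rw [← ρ_mul, inv_mul_cancel, ρ_one] } : Subgroup H) := by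
      refine (Subgroup.closure_le _).mpr ?_
      rintro _ ⟨d, hd, rfl⟩
      show ρ (d⁻¹ * (a * d * a⁻¹)) u₀ = u₀
      have hd' := haQ d hd
      rw [ρ_mul, hν _ hd' u₀ hu₀U, ← hν' _ hd', show a⁻¹ * (a * d * a⁻¹) * a = d by group,
        ← hν d hd u₀ hu₀U, ← ρ_mul, inv_mul_cancel, ρ_one]
    exact hstab (hgen hc)
  have hRΦ : ∀ r ∈ R, r ∈ Φ := fun r hr =>
    (hΦmem r).mpr ⟨hr.1, hcent R (fun r hr => hr.1) hRQ hRB r hr⟩
  have hχ0 : ∀ f ∈ Φ, χ f ≠ 0 := fun f hf h0 => hu₀ (by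
    have h1 := hχ f hf u₀ hu₀U
    rw [h0, zero_smul] at h1
    have h2 := congrArg (ρ f⁻¹) h1
    rwa [← ρ_mul, inv_mul_cancel, ρ_one, map_zero] at h2)
  have hcΦ : ∀ c ∈ Q, ∀ d ∈ Q, ⁅c, d⁆ ∈ Φ := fun c hc d hd =>
    (hΦmem _).mpr ⟨Subgroup.commutator_le_self Q (Subgroup.commutator_mem_commutator hc hd), hcomm c hc d hd⟩
  have hswap : ∀ c ∈ Q, ∀ d ∈ Q, ∀ w ∈ W, ρ (c * d) w = χ ⁅c, d⁆ • ρ (d * c) w := fun c hc d hd w hw => by
    rw [← hWQ _ (Q.mul_mem hd hc) w hw _ (hcΦ c hc d hd), ← ρ_mul, commutatorElement_def]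
    group
  -- elements in different cosets of `Φ` are independent
  have hindep : ∀ (s : Finset (Fin 3 × Fin 3)) (g : Fin 3 × Fin 3 → H) (k : Fin 3 × Fin 3), (∀ i, g i ∈ Q) →
      k ∈ s → (∀ i ∈ s, i ≠ k → (g k)⁻¹ * g i ∉ Φ) → ∀ c : Fin 3 × Fin 3 → K,
      (∀ w ∈ W, ∑ i ∈ s, c i • ρ (g i) w = 0) → c k = 0 := by
    intro s
    induction s using Finset.strongInduction with
    | H s ih =>
      intro g k hg hk hdist c hsum
      by_cases hj : ∃ j ∈ s, j ≠ k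
      · obtain ⟨j, hj, hjk⟩ := hj
        obtain ⟨e, he, hne⟩ : ∃ e ∈ Q, χ ⁅e, g k⁆ ≠ χ ⁅e, g j⁆ := by
          by_contra hall
          push_neg at hall
          refine hdist j hj hjk (hRΦ _ ⟨Q.mul_mem (Q.inv_mem (hg k)) (hg j), fun c hc w hw => ?_⟩)
          have h1 := hswap c hc (g k) (hg k) (ρ ((g k)⁻¹ * g j) w)
            (hWQ _ (Q.mul_mem (Q.inv_mem (hg k)) (hg j)) w hw)
          rw [← ρ_mul, ← ρ_mul, show c * g k * ((g k)⁻¹ * g j) = c * g j by group,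
            hswap c hc (g j) (hg j) w hw, hall c hc] at h1
          have h2 := congrArg (ρ (g k)⁻¹)
            (smul_right_injective V (hχ0 _ (hcΦ c hc (g j) (hg j))) h1)
          rw [← ρ_mul, ← ρ_mul] at h2
          simpa [mul_assoc] using h2
        have h3 := ih (s.erase j) (Finset.erase_ssubset hj) g k hg
          (Finset.mem_erase.mpr ⟨hjk.symm, hk⟩) (fun i hi => hdist i (Finset.mem_of_mem_erase hi))
          (fun i => c i * (χ ⁅e, g i⁆ - χ ⁅e, g j⁆)) (fun w hw => by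
            rw [Finset.sum_erase _ (by simp)]
            have hw' := hWQ e⁻¹ (Q.inv_mem he) w hw
            have h1 := congrArg (ρ e) (hsum _ hw')
            rw [map_zero, map_sum] at h1
            have h4 : ∀ i, ρ e (c i • ρ (g i) (ρ e⁻¹ w)) = (c i * χ ⁅e, g i⁆) • ρ (g i) w := fun i => by
              rw [map_smul, ← ρ_mul, ← ρ_mul, mul_smul]
              congr 1
              rw [ρ_mul, hswap e he (g i) (hg i) _ hw', ← ρ_mul]
              group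
            rw [Finset.sum_congr rfl fun i _ => h4 i] at h1
            simp only [mul_sub, sub_smul, Finset.sum_sub_distrib, h1, zero_sub, neg_eq_zero]
            simp only [mul_comm (c _) (χ ⁅e, g j⁆), mul_smul, ← Finset.smul_sum, hsum w hw, smul_zero])
        exact (mul_eq_zero.mp h3).resolve_right (sub_ne_zero.mpr hne)
      · push_neg at hj
        have hs : s = {k} := Finset.eq_singleton_iff_unique_mem.mpr ⟨hk, hj⟩
        have h1 := hsum u₀ (hUW u₀ hu₀U)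
        rw [hs, Finset.sum_singleton] at h1
        refine (smul_eq_zero.mp h1).resolve_right fun h0 => hu₀ ?_
        have := congrArg (ρ (g k)⁻¹) h0
        rwa [← ρ_mul, inv_mul_cancel, ρ_one, map_zero] at this
  -- pass to the quotient by `Φ`
  set M := Subgroup.normalizer (Φ : Set H) with hM
  set N := Φ.subgroupOf M with hN
  haveI : N.Normal := Subgroup.normal_in_normalizer
  have hBM : B ≤ M := fun b hb => Subgroup.mem_normalizer_iff.mpr fun f => ⟨hΦB b hb f, fun h => by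
    simpa [mul_assoc] using hΦB b⁻¹ (inv_mem hb) _ h⟩
  have hQM : Q ≤ M := fun c hc => Subgroup.mem_normalizer_iff.mpr fun f => ⟨fun hf => by
    rwa [← hΦz f hf c hc, mul_inv_cancel_right], fun h => by
    have h2 := hΦz _ h c⁻¹ (Q.inv_mem hc)
    rwa [show c * f * c⁻¹ = f by
      calc c * f * c⁻¹ = (c * f * c⁻¹ * c⁻¹) * c := by group
        _ = f := by rw [h2]; group] at h⟩
  set π := QuotientGroup.mk' N with hπ
  have hπeq : ∀ x y : M, π x = π y ↔ ((x : H))⁻¹ * y ∈ Φ := fun x y => by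
    rw [hπ, QuotientGroup.mk'_apply, QuotientGroup.mk'_apply, QuotientGroup.eq]
    rfl
  set C := (Q.subgroupOf M).map π with hC
  have hCmem : ∀ z ∈ C, ∃ x : M, (x : H) ∈ Q ∧ π x = z := fun z hz => by
    obtain ⟨x, hx, rfl⟩ := hz; exact ⟨x, hx, rfl⟩
  set s := π ⟨a, hBM haB⟩ with hs
  have hsC : ∀ z ∈ C, s * z * s⁻¹ ∈ C := fun z hz => by
    obtain ⟨x, hx, rfl⟩ := hCmem z hz
    exact ⟨⟨a, hBM haB⟩ * x * ⟨a, hBM haB⟩⁻¹, haQ _ hx, by rw [map_mul, map_mul, map_inv]⟩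
  have hπ1 : ∀ x : M, π x = 1 ↔ (x : H) ∈ Φ := fun x => by
    rw [hπ, QuotientGroup.mk'_apply, QuotientGroup.eq_one_iff]; rfl
  have hfix : ∀ z ∈ C, s * z * s⁻¹ = z → z = 1 := fun z hz e => by
    obtain ⟨x, hx, rfl⟩ := hCmem z hz
    rw [hs, ← map_inv, ← map_mul, ← map_mul, eq_comm, hπeq] at e
    exact (hπ1 x).mpr ((hΦmem _).mpr ⟨hx, hfpf x hx ((hΦmem _).mp e).2⟩)
  have hne : ∃ z ∈ C, z ≠ 1 := by
    obtain ⟨d, hd, hd'⟩ : ∃ d ∈ Q, ¬ Commute d a := by simpa using hQa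
    exact ⟨π ⟨d, hQM hd⟩, ⟨⟨d, hQM hd⟩, hd, rfl⟩, fun e => hd' ((hΦmem d).mp ((hπ1 _).mp e)).2⟩
  rcases unique_or_small C (fun y hy z hz => by
      obtain ⟨y, hy', rfl⟩ := hCmem y hy
      obtain ⟨z, hz', rfl⟩ := hCmem z hz
      rw [← map_mul, ← map_mul, hπeq]
      have := hcΦ _ (Q.inv_mem hz') _ (Q.inv_mem hy')
      simpa [commutatorElement_def, mul_assoc] using this)
    s (by rw [hs, ← map_pow, ← map_one π]; exact congrArg π (Subtype.ext ha3)) hsC hfix (fun z hz e => by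
      obtain ⟨x, hx, rfl⟩ := hCmem z hz
      rw [← map_pow, hπ1] at e
      obtain ⟨hx3, hx3a⟩ := (hΦmem _).mp e
      refine hfix _ hz ?_
      rw [hs, ← map_inv, ← map_mul, ← map_mul, eq_comm, hπeq]
      set y : H := (x : H) with hy
      rw [show ((⟨a, hBM haB⟩ * x * ⟨a, hBM haB⟩⁻¹ : M) : H) = a * y * a⁻¹ from rfl]
      have hd3 : (a * y * a⁻¹) ^ 3 = y ^ 3 := by
        rw [show (a * y * a⁻¹) ^ 3 = a * y ^ 3 * a⁻¹ by simp [pow_succ, mul_assoc],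
          show y ^ 3 = ((x ^ 3 : M) : H) from rfl, ← hx3a.eq, mul_inv_cancel_right]
      obtain ⟨k, hk⟩ := IsPGroup.iff_card.mp hQq
      obtain ⟨m, hm⟩ : ∃ m : ℕ, ∀ c ∈ Q, (c ^ 3) ^ m = c := by
        obtain ⟨m, -, hm⟩ := Nat.exists_mul_mod_eq_one_of_coprime hQ3.symm (by
          rcases Nat.lt_or_ge 1 (Nat.card Q) with h | h
          · exact h
          · exact absurd (Subgroup.card_le_one_iff_eq_bot Q |>.mp h) hQ0)
        refine ⟨m, fun c hc => ?_⟩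
        rw [← pow_mul, ← Nat.mod_add_div (3 * m) (Nat.card Q), hm, pow_add, pow_mul c (Nat.card Q),
          show c ^ Nat.card Q = 1 from congrArg Subtype.val (pow_card_eq_one' (x := (⟨c, hc⟩ : Q))),
          one_pow, mul_one, pow_one]
      rw [← hm _ (haQ y hx), hd3, hm y hx, inv_mul_cancel]
      exact one_mem Φ) hne with ⟨zx, hzx, zy, hzy, huniq⟩ | ⟨zx, hzx, hzx1, hall⟩
  · obtain ⟨x, hx, rfl⟩ := hCmem zx hzx
    obtain ⟨y, hy, rfl⟩ := hCmem zy hzy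
    let g : Fin 3 × Fin 3 → H := fun i => a ^ (i.1 : ℕ) * x * (a ^ (i.1 : ℕ))⁻¹ *
      (a ^ (i.2 : ℕ) * y * (a ^ (i.2 : ℕ))⁻¹)
    have hg : ∀ i, g i ∈ Q := fun i =>
      Q.mul_mem (hBQ _ (pow_mem haB _) _ hx) (hBQ _ (pow_mem haB _) _ hy)
    have h1 := hindep Finset.univ g (0, 0) hg (Finset.mem_univ _) (fun i _ hi hmem => huniq i.1 i.2 hi (by
      rw [hs, ← map_pow, ← map_pow, ← map_inv, ← map_inv, ← map_mul, ← map_mul, ← map_mul, ← map_mul,
        ← map_mul, ← map_mul, eq_comm, hπeq]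
      simpa [g] using hmem)) (fun _ => 1) (fun w _ => by
        have h2 : ∑ i, ρ (g i) = 0 := by
          rw [Fintype.sum_prod_type]
          simp only [g, map_mul (f := ρ) (a ^ (_ : ℕ) * (x : H) * (a ^ (_ : ℕ))⁻¹)]
          rw [← Finset.sum_mul_sum, orbit_sum ha3 hn, orbit_sum ha3 hn,
            show (ρ a - 1) * ρ (x : H) * (ρ a - 1) * ((ρ a - 1) * ρ (y : H) * (ρ a - 1)) =
              (ρ a - 1) * ρ (x : H) * (ρ a - 1) ^ 2 * (ρ (y : H) * (ρ a - 1)) by noncomm_ring,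
            hn, mul_zero, zero_mul]
        simpa using LinearMap.congr_fun h2 w)
    exact one_ne_zero h1
  · obtain ⟨x, hx, rfl⟩ := hCmem zx hzx
    have hstab : ∀ b ∈ B, ∀ hb : b ∈ M, ∃ i : ℕ, π ⟨b, hb⟩ * π x * (π ⟨b, hb⟩)⁻¹ = s ^ i * π x * (s ^ i)⁻¹ := by
      intro b hbB hb
      refine (hall _ ⟨⟨b, hb⟩ * x * ⟨b, hb⟩⁻¹, hBQ b hbB _ hx, by rw [map_mul, map_mul, map_inv]⟩).resolve_left
        fun e => hzx1 ?_
      rwa [mul_inv_eq_one, mul_eq_left] at e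
    let T : Subgroup M := (Subgroup.centralizer ({π x} : Set (M ⧸ N))).comap π
    have hT : ⁅B, B⁆ ≤ T.map M.subtype := by
      rw [Subgroup.commutator_le]
      intro b hbB b' hb'B
      refine ⟨⁅(⟨b, hBM hbB⟩ : M), ⟨b', hBM hb'B⟩⁆, ?_, rfl⟩
      obtain ⟨i, hi⟩ := hstab b⁻¹ (inv_mem hbB) (hBM (inv_mem hbB))
      obtain ⟨j, hj⟩ := hstab b'⁻¹ (inv_mem hb'B) (hBM (inv_mem hb'B))
      have hcomms : ∀ c (hc : c ∈ B), Commute (π ⟨c, hBM hc⟩) s := fun c hc =>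
        (show Commute (⟨c, hBM hc⟩ : M) ⟨a, hBM haB⟩ from Subtype.ext (hac c hc).eq).map π
      have key : ∀ (β β' : M ⧸ N) (i j : ℕ), Commute β s → β * π x * β⁻¹ = s ^ i * π x * (s ^ i)⁻¹ →
          β' * π x * β'⁻¹ = s ^ j * π x * (s ^ j)⁻¹ →
          (β * β') * π x * (β * β')⁻¹ = s ^ (j + i) * π x * (s ^ (j + i))⁻¹ := by
        intro β β' i j hβ hi hj
        calc (β * β') * π x * (β * β')⁻¹ = β * (β' * π x * β'⁻¹) * β⁻¹ := by group
          _ = (β * s ^ j) * π x * (β * s ^ j)⁻¹ := by rw [hj]; group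
          _ = (s ^ j * β) * π x * (s ^ j * β)⁻¹ := by rw [(hβ.pow_right j).eq]
          _ = s ^ j * (β * π x * β⁻¹) * (s ^ j)⁻¹ := by group
          _ = _ := by rw [hi, pow_add]; group
      have e := (key _ _ _ _ (hcomms b⁻¹ (inv_mem hbB)) hi hj).trans
        ((Nat.add_comm j i) ▸ (key _ _ _ _ (hcomms b'⁻¹ (inv_mem hb'B)) hj hi).symm)
      refine Subgroup.mem_centralizer_singleton_iff.mpr ?_
      have hinv : ∀ (c : H) (hc : c ∈ B), π ⟨c⁻¹, hBM (inv_mem hc)⟩ = (π ⟨c, hBM hc⟩)⁻¹ := fun c hc => by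
        rw [← map_inv]; rfl
      rw [hinv b hbB, hinv b' hb'B] at e
      rw [map_commutatorElement, ← mul_inv_eq_iff_eq_mul, commutatorElement_def]
      generalize π ⟨b, hBM hbB⟩ = β at e ⊢
      generalize π ⟨b', hBM hb'B⟩ = β' at e ⊢
      calc β * β' * β⁻¹ * β'⁻¹ * π x * (β * β' * β⁻¹ * β'⁻¹)⁻¹
          = (β'⁻¹ * β⁻¹)⁻¹ * ((β⁻¹ * β'⁻¹) * π x * (β⁻¹ * β'⁻¹)⁻¹) * (β'⁻¹ * β⁻¹) := by group
        _ = π x := by rw [e]; group
    obtain ⟨t, ht, hta⟩ := hT ha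
    have ht' : t = ⟨a, hBM haB⟩ := Subtype.ext hta
    subst ht'
    refine hzx1 (hfix _ hzx ?_)
    rw [mul_inv_eq_iff_eq_mul]
    exact Subgroup.mem_centralizer_singleton_iff.mp ht

end Cfsg.Agent.Lib.HallHigman.DerivedThree
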