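import Mathlib
import Cfsg.Agent.Lib.Cores
import Cfsg.Agent.Lib.Coprime
import Cfsg.Agent.Lib.Blocks.PSolvable
import Cfsg.Agent.Lib.BlockHeights.PConstrainedCores
import Cfsg.Agent.Lib.Solvable.FPF.Module
import Cfsg.Agent.S4282

/-!
The action of `G ⧸ O_p(G)` on the Frattini quotient of `O_p(G)`, as linear operators.
-/

set_option autoImplicit false

namespace Cfsg.Agent.Lib.HallHigman

open Module Subgroup Cfsg.Agent.Lib
open scoped commutatorElement

universe u

/-- A product of conjugates. -/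
def conjProd {G : Type*} [Group G] {a : ℕ} (f : Fin a → G) (v : G) : G :=
  (List.ofFn fun i => f i * v * (f i)⁻¹).prod

/-- The Frattini subgroup of `O_p(G)`. -/
def frattiniCore (p : ℕ) (G : Type*) [Group G] : Subgroup G :=
  (frattini (Cfsg.pCore p G)).map (Cfsg.pCore p G).subtype

instance frattiniCore_normal (p : ℕ) (G : Type*) [Group G] [Finite G] : (frattiniCore p G).Normal :=
  Cores.normal_map_subtype_of_char _ _

theorem exists_action {G : Type u} [Group G] [Finite G] {p : ℕ} [Fact p.Prime]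
    (hG : Cfsg.IsPSolvable p G) (hcore : Cfsg.pPrimeCore p G = ⊥) :
    ∃ (d : ℕ) (ρ : (G ⧸ Cfsg.pCore p G) →* End (AlgebraicClosure (ZMod p)) (Fin d → AlgebraicClosure (ZMod p))),
      Function.Injective ρ ∧ ∀ {a b : ℕ} (f : Fin a → G) (g : Fin b → G),
        (∀ v ∈ Cfsg.pCore p G, conjProd f v * (conjProd g v)⁻¹ ∈ frattiniCore p G) →
          ∑ i, ρ (f i) = ∑ i, ρ (g i) := by
  classical
  set V := Cfsg.pCore p G with hV
  have hVp : IsPGroup p V := Cores.pCore_isPGroup p G
  have hCV : centralizer (V : Set G) ≤ V := Blocks.centralizer_pCore_le_of_isPSolvable p hG hcore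
  haveI : Group.IsNilpotent V := hVp.isNilpotent
  set Φ := frattiniCore p G with hΦ
  have hΦ' : Φ = (frattini V).map V.subtype := rfl
  set π := QuotientGroup.mk' Φ with hπ
  set U := V.map π with hU
  haveI hUn : U.Normal := Subgroup.Normal.map inferInstance _ (QuotientGroup.mk'_surjective Φ)
  letI : CommGroup U := { (inferInstance : Group U) with
    mul_comm := fun u v => by
      obtain ⟨_, a, ha, rfl⟩ := u
      obtain ⟨_, b, hb, rfl⟩ := v
      refine Subtype.ext (show π a * π b = π b * π a from ?_)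
      rw [← commutatorElement_eq_one_iff_mul_comm, ← map_commutatorElement, hπ,
        QuotientGroup.mk'_apply, QuotientGroup.eq_one_iff, hΦ']
      exact ⟨_, Cores.commutator_le_frattini
        (commutator_mem_commutator (mem_top (⟨a, ha⟩ : V)) (mem_top ⟨b, hb⟩)), rfl⟩ }
  have hUp : ∀ u : U, u ^ p = 1 := by
    rintro ⟨_, a, ha, rfl⟩
    refine Subtype.ext (show (π a) ^ p = 1 from ?_)
    rw [← map_pow, hπ, QuotientGroup.mk'_apply, QuotientGroup.eq_one_iff, hΦ']
    exact ⟨_, Cores.pow_mem_frattini hVp ⟨a, ha⟩, rfl⟩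
  let φ : G →* MulAut U := MulAut.conjNormal.comp π
  have hφ : ∀ g (u : U), ((φ g u : U) : G ⧸ Φ) = π g * u * (π g)⁻¹ := fun g u =>
    MulAut.conjNormal_apply _ _
  have hVker : V ≤ φ.ker := fun v hv => by
    refine MonoidHom.mem_ker.mpr (MulEquiv.ext fun u => Subtype.ext ?_)
    rw [hφ]
    have := congrArg Subtype.val (mul_comm (⟨π v, v, hv, rfl⟩ : U) u)
    show π v * (u : G ⧸ Φ) * (π v)⁻¹ = u
    rw [show π v * (u : G ⧸ Φ) = u * π v from this, mul_inv_cancel_right]
  have hker : φ.ker ≤ V := by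
    refine Cores.le_pCore inferInstance fun g => ?_
    obtain ⟨k, hk⟩ : ∃ k : ℕ, (orderOf ((g : G) ^ p ^ k)).Coprime p := by
      refine ⟨(orderOf (g : G)).factorization p, ?_⟩
      rw [orderOf_pow, Nat.gcd_eq_right (Nat.ordProj_dvd _ _)]
      exact (Nat.coprime_ordCompl (Fact.out : p.Prime) (orderOf_pos _).ne').symm
    have h1 : (g : G) ^ p ^ k ∈ V := by
      refine hCV (Coprime.le_centralizer_of_frattini (A := zpowers ((g : G) ^ p ^ k)) ?_ ?_ (mem_zpowers _))
      · rw [Nat.card_zpowers]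
        obtain ⟨m, hm⟩ := (hVp.to_subgroup (frattini V)).exists_card_eq
        rw [hm]; exact hk.pow_right m
      · intro a ha v hv
        obtain ⟨i, rfl⟩ := mem_zpowers_iff.mp ha
        show ((g : G) ^ p ^ k) ^ i * v * (((g : G) ^ p ^ k) ^ i)⁻¹ * v⁻¹ ∈ Φ
        have hmem : ((g : G) ^ p ^ k) ^ i ∈ φ.ker := zpow_mem (pow_mem g.2 _) i
        have h2 := congrArg (fun e : MulAut U => ((e ⟨π v, v, hv, rfl⟩ : U) : G ⧸ Φ)) (MonoidHom.mem_ker.mp hmem)
        simp only [hφ, MulAut.one_apply] at h2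
        rw [← QuotientGroup.eq_one_iff]
        show π (_ * v * _ * v⁻¹) = 1
        rw [map_mul, map_mul, map_mul, map_inv, map_inv, h2, mul_inv_cancel]
    obtain ⟨j, hj⟩ := hVp ⟨_, h1⟩
    refine ⟨k + j, Subtype.ext ?_⟩
    have := congrArg Subtype.val hj
    rw [SubmonoidClass.coe_pow, OneMemClass.coe_one, ← pow_mul, ← pow_add] at this
    exact this
  set θ := QuotientGroup.lift V φ hVker with hθ
  have hθi : Function.Injective θ := by
    rw [injective_iff_map_eq_one]
    intro g hg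
    obtain ⟨g, rfl⟩ := QuotientGroup.mk'_surjective V g
    exact (QuotientGroup.eq_one_iff g).mpr (hker hg)
  obtain ⟨ρ₀, hρ₀, hnorm⟩ := Solvable.FPF.exists_representation (V := U) (s := p) hUp
  refine ⟨_, ρ₀.comp θ, hρ₀.comp hθi, fun {a b} f g h => ?_⟩
  have key : ∀ {a : ℕ} (f : Fin a → G) (v : G) (hv : v ∈ V),
      ((∏ i, φ (f i) ⟨π v, v, hv, rfl⟩ : U) : G ⧸ Φ) = π (conjProd f v) := by
    intro a f v hv
    rw [conjProd, ← List.prod_ofFn, SubmonoidClass.coe_list_prod, map_list_prod, List.map_ofFn, List.map_ofFn]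
    exact congrArg List.prod (congrArg List.ofFn (funext fun i => by
      simp only [Function.comp_apply, hφ, map_mul, map_inv]))
  refine Eq.trans ?_ ((hnorm (fun i => φ (f i)) (fun i => φ (g i)) ?_).trans ?_)
  · rfl
  · rintro ⟨_, v, hv, rfl⟩
    refine Subtype.ext ?_
    rw [key f v hv, key g v hv]
    exact mul_inv_eq_one.mp (by rw [← map_inv, ← map_mul]; exact (QuotientGroup.eq_one_iff _).mpr (h v hv))
  · rfl

theorem mul_pow_eq_conjProd {G : Type*} [Group G] (v x : G) :
    ∀ m : ℕ, (v * x) ^ m = conjProd (fun i : Fin m => x ^ (i : ℕ)) v * x ^ m := by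
  intro m
  induction m with
  | zero => simp [conjProd]
  | succ m ih =>
    rw [pow_succ, ih, conjProd, conjProd, List.ofFn_succ', List.concat_eq_append, List.prod_append, List.prod_singleton]
    simp only [Fin.val_castSucc, Fin.val_last]
    rw [pow_succ x]
    group

theorem sub_one_pow_eq_sum {K : Type*} [Field K] {p : ℕ} [Fact p.Prime] [CharP K p] {W : Type*}
    [AddCommGroup W] [Module K W] (A : Module.End K W) (i : ℕ) :
    (A - 1) ^ (p ^ i - 1) = ∑ k : Fin (p ^ i), A ^ (k : ℕ) := by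
  have h := congrArg (Polynomial.aeval A) (Cfsg.Agent.S4282.geom_eq_pow (K := K) p i)
  simp only [map_sum, map_pow, Polynomial.aeval_X, map_sub, map_one] at h
  rw [← h, Finset.sum_range]

/-- If the exponent of a Sylow group containing `x` divides `p ^ n` then the minimal polynomial degree is small. -/
theorem pow_eq_zero_of_exponent {G : Type u} [Group G] [Finite G] {p : ℕ} [Fact p.Prime]
    {d : ℕ} (ρ : (G ⧸ Cfsg.pCore p G) →* End (AlgebraicClosure (ZMod p)) (Fin d → AlgebraicClosure (ZMod p)))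
    (hsum : ∀ {a b : ℕ} (f : Fin a → G) (g : Fin b → G),
        (∀ v ∈ Cfsg.pCore p G, conjProd f v * (conjProd g v)⁻¹ ∈ frattiniCore p G) →
          ∑ i, ρ (f i) = ∑ i, ρ (g i))
    {n : ℕ} (hexp : ∀ (P : Sylow p G), ∀ x ∈ (P : Subgroup G), x ^ p ^ n = 1)
    (P : Sylow p G) {x : G} (hx : x ∈ (P : Subgroup G)) :
    (ρ (QuotientGroup.mk x) - 1) ^ (p ^ n - 1) = 0 := by
  rw [sub_one_pow_eq_sum]
  have h := hsum (fun i : Fin (p ^ n) => x ^ (i : ℕ)) (Fin.elim0 : Fin 0 → G) (fun v hv => by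
    obtain ⟨R, hR⟩ := (show IsPGroup p (Cfsg.pCore p G ⊔ zpowers x : Subgroup G) from
      ((Cores.pCore_isPGroup p G).to_sup_of_normal_left' (P.isPGroup'.to_le (zpowers_le.mpr hx))
        le_normalizer_of_normal)).exists_le_sylow
    have h1 := hexp R _ (hR (mul_mem (mem_sup_left hv) (mem_sup_right (mem_zpowers x))))
    rw [mul_pow_eq_conjProd, hexp P x hx, mul_one] at h1
    rw [h1, one_mul]
    simp [conjProd])
  rw [Finset.univ_eq_empty (α := Fin 0), Finset.sum_empty] at h
  refine Eq.trans (Finset.sum_congr rfl fun i _ => ?_) h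
  rw [← map_pow, ← QuotientGroup.mk_pow]

end Cfsg.Agent.Lib.HallHigman
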