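import Mathlib
import Cfsg.Agent.Lib.HallHigman.Bound
import Cfsg.Agent.Lib.Cores
import Cfsg.Agent.Lib.Coprime
import Cfsg.Agent.Lib.Characters.PSolvableTI

/-!
Theorem B of Hall and Higman, over an algebraically closed field and over an arbitrary field.
-/

set_option autoImplicit false

namespace Cfsg.Agent.Lib.HallHigman

open Cfsg.Agent.Lib
open scoped commutatorElement

/-- A minimal invariant `q`-group on which `x ^ p ^ (n - 1)` acts nontrivially. -/
theorem exists_group {H : Type*} [Group H] [Finite H] {p : ℕ} [Fact p.Prime]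
    (hsol : Cfsg.IsPSolvable p H) (hOp : Cfsg.pCore p H = ⊥) (x : H) {n : ℕ} (hn : 0 < n)
    (hxo : orderOf x = p ^ n) :
    ∃ (q : ℕ) (_ : Fact q.Prime) (Q : Subgroup H), p ≠ q ∧ IsPGroup q Q ∧
      x ∈ Subgroup.normalizer (Q : Set H) ∧
      Q ≤ Subgroup.closure {g | ∃ d ∈ Q, g = d⁻¹ * (x ^ p ^ (n - 1) * d * (x ^ p ^ (n - 1))⁻¹)} ∧
      (∀ c ∈ Q, ∀ d ∈ Q, Commute ⁅c, d⁆ (x ^ p ^ (n - 1))) ∧ Q ≠ ⊥ := by
  classical
  have hp : p.Prime := Fact.out
  set z := x ^ p ^ (n - 1) with hz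
  set F := Cfsg.pPrimeCore p H with hF
  haveI : F.Normal := by rw [hF]; infer_instance
  have hzp : z ^ p = 1 := by rw [hz, ← pow_mul, ← pow_succ, Nat.sub_add_cancel hn, ← hxo, pow_orderOf_eq_one]
  have hz1 : z ≠ 1 := fun e => by
    have := Nat.le_of_dvd (pow_pos hp.pos _) (orderOf_dvd_of_pow_eq_one (hz ▸ e))
    rw [hxo] at this
    have := (Nat.pow_le_pow_iff_right hp.one_lt).mp this
    omega
  have hcopF : (Nat.card F).Coprime p := Cores.pPrimeCore_coprime p H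
  have hzF : ¬ ∀ c ∈ F, Commute c z := fun h => hz1 (by
    have h1 : z ∈ F := Characters.centralizer_pPrimeCore_le_of_pCore_eq_bot p hsol hOp
      (Subgroup.mem_centralizer_iff.mpr fun c hc => (h c hc).eq)
    have h2 : (orderOf z).Coprime p := hcopF.coprime_dvd_left
      (by rw [← Nat.card_zpowers]; exact Subgroup.card_dvd_of_le (Subgroup.zpowers_le.mpr h1))
    exact orderOf_eq_one_iff.mp (Nat.eq_one_of_dvd_coprimes h2 dvd_rfl (orderOf_dvd_of_pow_eq_one hzp)))
  have hcop : (Nat.card (Subgroup.zpowers x)).Coprime (Nat.card F) := by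
    rw [Nat.card_zpowers, hxo]; exact (hcopF.pow_right n).symm
  obtain ⟨q, hq, hS⟩ : ∃ (q : ℕ) (_ : Fact q.Prime),
      ∃ Q : Subgroup H, Q ≤ F ∧ IsPGroup q Q ∧ x ∈ Subgroup.normalizer (Q : Set H) ∧ ¬ ∀ c ∈ Q, Commute c z := by
    by_contra hall
    push_neg at hall
    refine hzF fun c hc => ?_
    have hle : F ≤ F ⊓ Subgroup.centralizer ({z} : Set H) := by
      have hd : Nat.card F ∣ Nat.card ↥(F ⊓ Subgroup.centralizer ({z} : Set H)) := by
        refine (Nat.dvd_iff_prime_pow_dvd_dvd _ _).mpr fun q m hq hm => ?_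
        haveI := Fact.mk hq
        obtain ⟨P, hP⟩ := Coprime.exists_invariant_sylow (A := Subgroup.zpowers x) (K := F)
          Subgroup.le_normalizer_of_normal hcop (Or.inl (Coprime.isSolvable_zpowers x)) q
        refine dvd_trans ?_ (Subgroup.card_dvd_of_le (show (P : Subgroup F).map F.subtype ≤
          F ⊓ Subgroup.centralizer ({z} : Set H) from le_inf (Subgroup.map_subtype_le _) fun c hc => ?_))
        · rw [Subgroup.card_map_of_injective F.subtype_injective, P.card_eq_multiplicity]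
          exact pow_dvd_pow q ((hq.pow_dvd_iff_le_factorization Nat.card_pos.ne').mp hm)
        · exact Subgroup.mem_centralizer_singleton_iff.mpr (hall q (Fact.mk hq) _
            (Subgroup.map_subtype_le _) (P.isPGroup'.map _) (hP (Subgroup.mem_zpowers x)) c hc).eq
      exact (Subgroup.eq_of_le_of_card_ge inf_le_left (Nat.le_of_dvd Nat.card_pos hd)).ge
    exact Subgroup.mem_centralizer_singleton_iff.mp (hle hc).2
  obtain ⟨Q, ⟨hQF, hQq, hxQ, hQz⟩, hmin⟩ := Set.Finite.exists_minimal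
    (s := {Q : Subgroup H | Q ≤ F ∧ IsPGroup q Q ∧ x ∈ Subgroup.normalizer (Q : Set H) ∧ ¬ ∀ c ∈ Q, Commute c z})
    (Set.toFinite _) hS
  have hQ0 : Q ≠ ⊥ := fun e => hQz fun c hc => by
    rw [e, Subgroup.mem_bot] at hc; rw [hc]; exact Commute.one_left z
  have hpq : p ≠ q := fun e => by
    subst e
    obtain ⟨k, hk⟩ := IsPGroup.iff_card.mp hQq
    have h1 := hcopF.coprime_dvd_left (Subgroup.card_dvd_of_le hQF)
    rw [hk] at h1
    rcases Nat.eq_zero_or_pos k with rfl | hk0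
    · exact hQ0 (Subgroup.eq_bot_of_card_eq _ (by rw [hk, pow_zero]))
    · exact hp.ne_one ((Nat.coprime_self p).mp ((Nat.coprime_pow_left_iff hk0 _ _).mp h1))
  have hcent : ∀ W ≤ Q, W ≠ Q → x ∈ Subgroup.normalizer (W : Set H) → ∀ c ∈ W, Commute c z := by
    intro W hW hne hxW
    by_contra hnot
    exact hne (le_antisymm hW (hmin (y := W) ⟨hW.trans hQF, hQq.to_le hW, hxW, hnot⟩ hW))
  have hinv : ∀ W : Subgroup H, (∀ c ∈ W, x * c * x⁻¹ ∈ W) → x ∈ Subgroup.normalizer (W : Set H) := by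
    intro W hW
    refine Coprime.mem_normalizer_of_conj_smul_eq (Subgroup.eq_of_le_of_card_ge ?_ (Coprime.card_conj_smul x W).ge)
    rintro _ ⟨c, hc, rfl⟩
    exact hW c hc
  have hxc : ∀ c ∈ Q, x * c * x⁻¹ ∈ Q := fun c hc => (Subgroup.mem_normalizer_iff.mp hxQ c).mp hc
  have hzQ : ∀ c ∈ Q, z * c * z⁻¹ ∈ Q := fun c hc =>
    (Subgroup.mem_normalizer_iff.mp (pow_mem hxQ _) c).mp hc
  refine ⟨q, hq, Q, hpq, hQq, hxQ, ?_, fun c hc d hd => ?_, hQ0⟩
  · by_contra hle
    set S := {g | ∃ d ∈ Q, g = d⁻¹ * (z * d * z⁻¹)} with hS'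
    have hSQ : Subgroup.closure S ≤ Q := (Subgroup.closure_le _).mpr (by
      rintro _ ⟨d, hd, rfl⟩
      exact Q.mul_mem (Q.inv_mem hd) (hzQ d hd))
    have hxS : ∀ g ∈ Subgroup.closure S, x * g * x⁻¹ ∈ Subgroup.closure S := by
      intro g hg
      have h1 : Subgroup.closure S ≤ (Subgroup.closure S).comap (MulAut.conj x).toMonoidHom := by
        refine (Subgroup.closure_le _).mpr ?_
        rintro _ ⟨d, hd, rfl⟩
        refine Subgroup.subset_closure ⟨x * d * x⁻¹, hxc d hd, ?_⟩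
        have hxz : x * z = z * x := (Commute.self_pow x _).eq
        show x * (d⁻¹ * (z * d * z⁻¹)) * x⁻¹ = _
        calc x * (d⁻¹ * (z * d * z⁻¹)) * x⁻¹ = x * d⁻¹ * x⁻¹ * (x * z) * d * (x * z)⁻¹ := by group
          _ = x * d⁻¹ * x⁻¹ * (z * x) * d * (z * x)⁻¹ := by rw [hxz]
          _ = (x * d * x⁻¹)⁻¹ * (z * (x * d * x⁻¹) * z⁻¹) := by group
      exact h1 hg
    have hcz := hcent _ hSQ (fun e => hle e.ge) (hinv _ hxS)
    refine hQz fun d hd => ?_
    set e := d⁻¹ * (z * d * z⁻¹) with he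
    have hez : Commute e z := hcz _ (Subgroup.subset_closure ⟨d, hd, rfl⟩)
    have hk : ∀ k : ℕ, z ^ k * d * (z ^ k)⁻¹ = d * e ^ k := by
      intro k
      induction k with
      | zero => simp
      | succ k ih =>
        calc z ^ (k + 1) * d * (z ^ (k + 1))⁻¹ = z * (z ^ k * d * (z ^ k)⁻¹) * z⁻¹ := by rw [pow_succ']; group
          _ = (z * d * z⁻¹) * (z * e ^ k * z⁻¹) := by rw [ih]; group
          _ = d * e * e ^ k := by
            rw [show z * e ^ k * z⁻¹ = e ^ k by rw [← (hez.pow_left k).eq, mul_inv_cancel_right], he]; group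
          _ = d * e ^ (k + 1) := by rw [mul_assoc, ← pow_succ']
    have hep : e ^ p = 1 := by
      have := hk p
      rwa [hzp, one_mul, inv_one, mul_one, left_eq_mul] at this
    obtain ⟨k, hk'⟩ := hQq ⟨e, hSQ (Subgroup.subset_closure ⟨d, hd, rfl⟩)⟩
    have hek : e ^ q ^ k = 1 := congrArg Subtype.val hk'
    have he1 : e = 1 := orderOf_eq_one_iff.mp (Nat.eq_one_of_dvd_coprimes
      (Nat.Coprime.pow_right k ((Nat.coprime_primes hp hq.out).mpr hpq))
      (orderOf_dvd_of_pow_eq_one hep) (orderOf_dvd_of_pow_eq_one hek))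
    rw [he, inv_mul_eq_one, eq_mul_inv_iff_mul_eq] at he1
    exact he1
  · haveI : Group.IsNilpotent Q := hQq.isNilpotent
    haveI : Group.IsSolvable Q := inferInstance
    haveI : Nontrivial Q := Q.nontrivial_iff_ne_bot.mpr hQ0
    refine hcent ⁅Q, Q⁆ (Subgroup.commutator_le_self Q) (fun e => ?_)
      (hinv _ fun g hg => ?_) _ (Subgroup.commutator_mem_commutator hc hd)
    · refine (Group.IsSolvable.commutator_lt_top_of_nontrivial Q).ne ?_
      apply Subgroup.map_injective Q.subtype_injective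
      rw [Subgroup.map_subtype_commutator, e, ← MonoidHom.range_eq_map, Subgroup.range_subtype]
    have h1 : (⁅Q, Q⁆).map (MulAut.conj x).toMonoidHom ≤ ⁅Q, Q⁆ := by
      rw [Subgroup.map_commutator]
      have : Q.map (MulAut.conj x).toMonoidHom ≤ Q := by rintro _ ⟨c, hc, rfl⟩; exact hxc c hc
      exact Subgroup.commutator_mono this this
    exact h1 ⟨g, hg, rfl⟩

/-- Theorem B over an algebraically closed field. -/
theorem theoremB_closed {K : Type*} [Field K] [IsAlgClosed K] {p : ℕ} [Fact p.Prime] [CharP K p]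
    {V : Type*} [AddCommGroup V] [Module K V] [FiniteDimensional K V] {H : Type*} [Group H] [Finite H]
    (hsol : Cfsg.IsPSolvable p H) (hOp : Cfsg.pCore p H = ⊥) (ρ : H →* Module.End K V)
    (hρ : Function.Injective ρ) (x : H) {n : ℕ} (hn : 0 < n) (hxo : orderOf x = p ^ n) {r : ℕ}
    (hr : (ρ x - 1) ^ r = 0) :
    p ^ n ≤ r ∨ ∃ n₀ q m : ℕ, 1 ≤ n₀ ∧ n₀ ≤ n ∧ q.Prime ∧ 1 ≤ m ∧ p ^ n₀ - 1 = q ^ m ∧
      (∀ Q : Sylow q H, ¬ IsMulCommutative Q) ∧ p ^ (n - n₀) * (p ^ n₀ - 1) ≤ r := by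
  obtain ⟨q, hq, Q, hpq, hQ, hxQ, hgen, hcomm, hQ0⟩ := exists_group hsol hOp x hn hxo
  obtain ⟨c, hc, hc1⟩ := (Subgroup.bot_or_exists_ne_one Q).resolve_left hQ0
  rcases bound hpq ρ Q hQ x hxQ hn hxo hgen hcomm ⟨c, hc, fun e => hc1 (hρ (e.trans (map_one ρ).symm))⟩ hr with h | ⟨n₀, b, h1, h2, h3, h4, h5, h6⟩
  · exact Or.inl h
  refine Or.inr ⟨n₀, q, b, h1, h2, hq.out, h3, h4, fun P hP => h6 ?_, h5⟩
  obtain ⟨P', hP'⟩ := hQ.exists_le_sylow
  obtain ⟨g, rfl⟩ := MulAction.exists_smul_eq H P P'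
  refine ⟨⟨fun a b => ?_⟩⟩
  have ha := hP' a.2
  have hb := hP' b.2
  rw [Sylow.coe_subgroup_smul] at ha hb
  obtain ⟨a', ha', ea⟩ := ha
  obtain ⟨b', hb', eb⟩ := hb
  refine Subtype.ext (show (a : H) * b = b * a from ?_)
  rw [← ea, ← eb]
  show MulAut.conj g a' * MulAut.conj g b' = MulAut.conj g b' * MulAut.conj g a'
  rw [← map_mul, ← map_mul]
  refine congrArg (MulAut.conj g) (show a' * b' = b' * a' from ?_)
  have h7 := hP.is_comm.comm ⟨a', ha'⟩ ⟨b', hb'⟩
  exact congrArg Subtype.val h7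

/-- Theorem B over any field of characteristic `p`. -/
theorem theoremB {F : Type*} [Field F] {p : ℕ} [Fact p.Prime] [CharP F p]
    {V : Type*} [AddCommGroup V] [Module F V] [FiniteDimensional F V] {H : Type*} [Group H] [Finite H]
    (hsol : Cfsg.IsPSolvable p H) (hOp : Cfsg.pCore p H = ⊥) (ρ : H →* Module.End F V)
    (hρ : Function.Injective ρ) (x : H) {n : ℕ} (hn : 0 < n) (hxo : orderOf x = p ^ n) {r : ℕ}
    (hr : (ρ x - 1) ^ r = 0) :
    p ^ n ≤ r ∨ ∃ n₀ q m : ℕ, 1 ≤ n₀ ∧ n₀ ≤ n ∧ q.Prime ∧ 1 ≤ m ∧ p ^ n₀ - 1 = q ^ m ∧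
      (∀ Q : Sylow q H, ¬ IsMulCommutative Q) ∧ p ^ (n - n₀) * (p ^ n₀ - 1) ≤ r := by
  classical
  let b := Module.finBasis F V
  let K := AlgebraicClosure F
  haveI : CharP K p := charP_of_injective_algebraMap (algebraMap F K).injective p
  let Φ : Module.End F V →+* Module.End K (Fin (Module.finrank F V) → K) :=
    (Matrix.toLinAlgEquiv' (R := K) (n := Fin (Module.finrank F V))).toRingEquiv.toRingHom.comp
      ((algebraMap F K).mapMatrix.comp (LinearMap.toMatrixAlgEquiv b).toRingEquiv.toRingHom)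
  have hΦ : Function.Injective Φ := fun a c h =>
    (LinearMap.toMatrixAlgEquiv b).injective (Matrix.map_injective (algebraMap F K).injective
      ((Matrix.toLinAlgEquiv' (R := K) (n := Fin (Module.finrank F V))).injective h))
  refine theoremB_closed hsol hOp (Φ.toMonoidHom.comp ρ) (fun a c h => hρ (hΦ h)) x hn hxo ?_
  show (Φ (ρ x) - 1) ^ r = 0
  rw [← map_one Φ, ← map_sub, ← map_pow, hr, map_zero]

end Cfsg.Agent.Lib.HallHigman
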