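import Mathlib
import Cfsg.Agent.Lib.HallHigman.TheoremB
import Cfsg.Agent.Lib.HallHigman.Module
import Cfsg.Agent.Lib.HallHigman.Arith
import Cfsg.Agent.Lib.PLength.Basic

/-!
The exponent bound on the `p`-length outside the exceptional case.
-/

set_option autoImplicit false

namespace Cfsg.Agent.Lib.HallHigman

open Subgroup Cfsg.Agent.Lib

universe u

/-- No exception of Theorem B is possible. -/
def Unexceptional (p : ℕ) (G : Type*) [Group G] : Prop :=
  (¬ ∃ k : ℕ, p = 2 ^ k + 1) ∨ ∀ S : Sylow 2 G, IsMulCommutative (S : Subgroup G)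

theorem Unexceptional.quotient {p : ℕ} {G : Type*} [Group G] [Finite G] (h : Unexceptional p G) (N : Subgroup G)
    [N.Normal] : Unexceptional p (G ⧸ N) := by
  refine h.imp id fun h Q => ?_
  haveI : Fact (Nat.Prime 2) := ⟨Nat.prime_two⟩
  obtain ⟨Q₀, rfl⟩ := Sylow.mapSurjective_surjective (QuotientGroup.mk'_surjective N) 2 Q
  haveI := h Q₀
  rw [Sylow.coe_mapSurjective]
  infer_instance

/-- The exceptional prime power equation forces a Fermat prime. -/
theorem fermat_of_exception {p n q m : ℕ} (hp : p.Prime) (hp2 : p ≠ 2) (hq : q.Prime) (hn : 1 ≤ n)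
    (hm : 1 ≤ m) (h : p ^ n - 1 = q ^ m) : q = 2 ∧ ∃ k : ℕ, p = 2 ^ k + 1 := by
  have h2 := eq_two_of_exception hp hp2 hq hn hm h
  subst h2
  refine ⟨rfl, ?_⟩
  rcases exception_two hp hp2 hn h with ⟨-, h1⟩ | ⟨-, h1, -⟩
  · exact ⟨m, h1⟩
  · exact ⟨1, by rw [h1]; rfl⟩

/-- Theorem B without exception. -/
theorem le_of_unexceptional {F : Type*} [Field F] {p : ℕ} [Fact p.Prime] [CharP F p]
    {V : Type*} [AddCommGroup V] [Module F V] [FiniteDimensional F V] {H : Type*} [Group H] [Finite H]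
    (hp2 : p ≠ 2) (hsol : Cfsg.IsPSolvable p H) (hOp : Cfsg.pCore p H = ⊥) (hun : Unexceptional p H)
    (ρ : H →* Module.End F V) (hρ : Function.Injective ρ) (x : H) {n : ℕ} (hn : 0 < n)
    (hxo : orderOf x = p ^ n) {r : ℕ} (hr : (ρ x - 1) ^ r = 0) : p ^ n ≤ r := by
  refine (theoremB hsol hOp ρ hρ x hn hxo hr).resolve_right ?_
  rintro ⟨n₀, q, m, h1, -, hq, hm, he, hS, -⟩
  obtain ⟨rfl, hk⟩ := fermat_of_exception (Fact.out : p.Prime) hp2 hq h1 hm he
  haveI : Fact (Nat.Prime 2) := ⟨Nat.prime_two⟩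
  rcases hun with h | h
  · exact h hk
  · obtain ⟨S⟩ : Nonempty (Sylow 2 H) := inferInstance
    exact hS S (h S)

theorem pLength_le_exponent : ∀ (e : ℕ) {G : Type u} [Group G] [Finite G] {p : ℕ} [Fact p.Prime],
    p ≠ 2 → Cfsg.IsPSolvable p G → Unexceptional p G →
    (∀ (P : Sylow p G), ∀ x ∈ (P : Subgroup G), x ^ p ^ e = 1) → Cfsg.PLengthLE p e G := by
  intro e
  induction e with
  | zero =>
    intro G _ _ p hp _ _ _ hexp
    refine PLength.of_coprime ?_ 0
    obtain ⟨P⟩ : Nonempty (Sylow p G) := inferInstance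
    have : (P : Subgroup G) = ⊥ := (eq_bot_iff_forall _).mpr fun x hx => by simpa using hexp P x hx
    have h1 : ¬ p ∣ (P : Subgroup G).index := P.not_dvd_index
    rw [this, index_bot] at h1
    exact (hp.out.coprime_iff_not_dvd.mpr h1).symm
  | succ e ih =>
    intro G _ _ p hp hp2 hG hun hexp
    suffices hred : ∀ {H : Type u} [Group H] [Finite H], Cfsg.IsPSolvable p H → Unexceptional p H →
        (∀ (P : Sylow p H), ∀ x ∈ (P : Subgroup H), x ^ p ^ (e + 1) = 1) →
        Cfsg.pPrimeCore p H = ⊥ → Cfsg.PLengthLE p (e + 1) H by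
      refine PLength.of_quotient_coprime (Cfsg.pPrimeCore p G) (Cores.pPrimeCore_coprime p G)
        (hred (BlockHeights.isPSolvable_quot _ hG) (hun.quotient _) (fun P x hx => ?_)
          (Cores.pPrimeCore_quotient_pPrimeCore p G))
      obtain ⟨P₀, rfl⟩ := Sylow.mapSurjective_surjective (QuotientGroup.mk'_surjective (Cfsg.pPrimeCore p G)) p P
      rw [Sylow.coe_mapSurjective] at hx
      obtain ⟨y, hy, rfl⟩ := hx
      rw [← map_pow, hexp P₀ y hy, map_one]
    clear hG hun hexp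
    intro G _ _ hG hun hexp hcore
    obtain ⟨d, ρ, hρ, hsum⟩ := exists_action hG hcore
    refine PLength.of_quotient_isPGroup (Cfsg.pCore p G) (Cores.pCore_isPGroup p G)
      (ih hp2 (BlockHeights.isPSolvable_quot _ hG) (hun.quotient _) fun P' x' hx' => ?_)
    obtain ⟨P, rfl⟩ := Sylow.mapSurjective_surjective (QuotientGroup.mk'_surjective (Cfsg.pCore p G)) p P'
    rw [Sylow.coe_mapSurjective] at hx'
    obtain ⟨x, hx, rfl⟩ := hx'
    by_contra hne
    have hso : orderOf (QuotientGroup.mk' (Cfsg.pCore p G) x) = p ^ (e + 1) :=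
      orderOf_eq_prime_pow hne (by rw [← map_pow, hexp P x hx, map_one])
    have h1 := pow_eq_zero_of_exponent ρ hsum hexp P hx
    have h2 := le_of_unexceptional hp2 (BlockHeights.isPSolvable_quot _ hG) (Cores.pCore_quotient_pCore p G)
      (hun.quotient _) ρ hρ _ e.succ_pos hso h1
    have := Nat.one_le_pow (e + 1) p hp.out.pos
    simp only [Nat.succ_eq_add_one] at h2
    omega

end Cfsg.Agent.Lib.HallHigman
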