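import Cfsg.Agent.Lib.HallHigman.PLength
import Cfsg.Agent.Lib.Coprime

/-!
The exponent bound on the `p`-length in all cases: outside `O_{p',p}` the `p ^ (n - 1)`-th powers in a
`p`-subgroup act commutatively on the first layer, so two steps lower the exponent.
-/

set_option autoImplicit false

namespace Cfsg.Agent.Lib.HallHigman

open Subgroup Cfsg.Agent.Lib
open scoped commutatorElement

universe u

section Commute

variable {H : Type*} [Group H] [Finite H]

/-- A subgroup acting coprimely and not centralized by `C` has an invariant Sylow subgroup not centralized by `C`. -/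
theorem exists_sylow_not_centralized {A K : Subgroup H} (hAK : A ≤ normalizer (K : Set H))
    (hcop : (Nat.card A).Coprime (Nat.card K)) (hsol : Group.IsSolvable A) {C : Set H}
    (hC : ¬ ∀ c ∈ C, ∀ k ∈ K, Commute c k) :
    ∃ (s : ℕ) (_ : Fact s.Prime) (S : Subgroup H), S ≤ K ∧ IsPGroup s S ∧
      A ≤ normalizer (S : Set H) ∧ ¬ ∀ c ∈ C, ∀ k ∈ S, Commute c k := by
  classical
  by_contra hall
  push Not at hall
  refine hC fun c hc k hk => ?_
  have hd : Nat.card K ∣ Nat.card ↥(K ⊓ centralizer C) := by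
    refine (Nat.dvd_iff_prime_pow_dvd_dvd _ _).mpr fun s m hs hm => ?_
    haveI := Fact.mk hs
    obtain ⟨P, hP⟩ := Coprime.exists_invariant_sylow (A := A) (K := K) hAK hcop (Or.inl hsol) s
    refine dvd_trans ?_ (card_dvd_of_le (show (P : Subgroup K).map K.subtype ≤ K ⊓ centralizer C from
      le_inf (map_subtype_le _) fun c hc => mem_centralizer_iff.mpr fun d hd =>
        (hall s (Fact.mk hs) _ (map_subtype_le _) (P.isPGroup'.map _) hP d hd c hc).eq))
    rw [card_map_of_injective K.subtype_injective, P.card_eq_multiplicity]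
    exact pow_dvd_pow s ((hs.pow_dvd_iff_le_factorization Nat.card_pos.ne').mp hm)
  have hle := (eq_of_le_of_card_ge (inf_le_left : K ⊓ centralizer C ≤ K) (Nat.le_of_dvd Nat.card_pos hd)).ge hk
  exact mem_centralizer_iff.mp hle.2 c hc

theorem le_normalizer_of_conj {X Z : Subgroup H} (h : ∀ x ∈ X, ∀ z ∈ Z, x * z * x⁻¹ ∈ Z) :
    X ≤ normalizer (Z : Set H) := fun x hx => by
  refine Coprime.mem_normalizer_of_conj_smul_eq (eq_of_le_of_card_ge ?_ (Coprime.card_conj_smul _ Z).ge)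
  rintro _ ⟨z, hz, rfl⟩
  exact h x hx z hz

theorem mem_normalizer_commutator {g : H} {A B : Subgroup H} (hA : g ∈ normalizer (A : Set H))
    (hB : g ∈ normalizer (B : Set H)) : g ∈ normalizer ((⁅A, B⁆ : Subgroup H) : Set H) := by
  refine Coprime.mem_normalizer_of_conj_smul_eq ?_
  have hA' : A.map (MulAut.conj g).toMonoidHom = A := Coprime.conj_smul_eq_of_mem_normalizer hA
  have hB' : B.map (MulAut.conj g).toMonoidHom = B := Coprime.conj_smul_eq_of_mem_normalizer hB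
  show (⁅A, B⁆ : Subgroup H).map (MulAut.conj g).toMonoidHom = ⁅A, B⁆
  rw [map_commutator, hA', hB']

theorem eq_one_of_pow_prime {p : ℕ} [Fact p.Prime] {K : Subgroup H} (hK : (Nat.card K).Coprime p) {d : H}
    (hd : d ∈ K) (hp : d ^ p = 1) : d = 1 := by
  refine orderOf_eq_one_iff.mp (Nat.eq_one_of_dvd_coprimes hK ?_ (orderOf_dvd_of_pow_eq_one hp))
  rw [← Nat.card_zpowers]
  exact card_dvd_of_le (zpowers_le.mpr hd)

theorem exists_eq_mul_zpow_of_not_mem {p : ℕ} [Fact p.Prime] {B : Subgroup H} {a b : H} (hab : Commute a b)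
    (haB : ∀ c ∈ B, Commute a c) (hap : a ^ p = 1) (hb : ∃ c ∈ B, ∃ k : ℤ, b = c * a ^ k)
    (hbB : b ∉ B) : ∃ c ∈ B, ∃ m : ℤ, a = c * b ^ m := by
  obtain ⟨c, hc, k, rfl⟩ := hb
  have hk : ¬ (p : ℤ) ∣ k := by
    rintro ⟨j, rfl⟩
    refine hbB ?_
    rw [zpow_mul, zpow_natCast, hap, one_zpow, mul_one]
    exact hc
  obtain ⟨u, v, huv⟩ := ((Nat.prime_iff_prime_int.mp (Fact.out : p.Prime)).coprime_iff_not_dvd.mpr hk)
  refine ⟨c ^ (-v), zpow_mem hc _, v, ?_⟩
  have hca : Commute c (a ^ k) := ((haB c hc).symm).zpow_right k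
  rw [hca.mul_zpow, ← mul_assoc, ← zpow_add, neg_add_cancel, zpow_zero, one_mul, ← zpow_mul]
  conv_lhs => rw [← zpow_one a, ← huv]
  rw [zpow_add, mul_comm u (p : ℤ), zpow_mul, zpow_natCast, hap, one_zpow, one_mul, mul_comm v k]

variable {p : ℕ} [Fact p.Prime]

/-- An element with small exponent power centralizes every normalized elementary abelian group of such powers. -/
theorem commute_of_normalized {n : ℕ} (hn : 0 < n) {F : Subgroup H} [F.Normal]
    (hF : (Nat.card F).Coprime p) (hCF : centralizer (F : Set H) ≤ F) {P : Subgroup H} (hP : IsPGroup p P)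
    (hexp : ∀ x ∈ P, x ^ p ^ n = 1)
    (hab : ∀ x ∈ P, ∀ L ≤ F, (∀ a ∈ L, ∀ b ∈ L, Commute a b) → x ∈ normalizer (L : Set H) →
      ∀ l ∈ L, Commute (x ^ p ^ (n - 1)) l)
    {R A : Subgroup H} (hRP : R ≤ P) (hAR : A ≤ R) (hRA : R ≤ normalizer (A : Set H))
    (hAc : ∀ a ∈ A, ∀ b ∈ A, Commute a b) (hAp : ∀ a ∈ A, a ^ p = 1)
    (hAgen : A ≤ closure {g | ∃ w ∈ R, g = w ^ p ^ (n - 1)}) {x : H} (hx : x ∈ R) {a : H} (ha : a ∈ A) :
    Commute (x ^ p ^ (n - 1)) a := by
  classical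
  have hp : p.Prime := Fact.out
  set q := p ^ (n - 1) with hq
  by_contra hne
  set Cg : Set H := {g | ∃ r ∈ R, ∃ b ∈ A, g = ⁅(r * x * r⁻¹) ^ q, b⁆} with hCg
  have hconjA : ∀ r ∈ R, ∀ b ∈ A, r * b * r⁻¹ ∈ A := fun r hr b hb =>
    (mem_normalizer_iff.mp (hRA hr) b).mp hb
  have hxR : ∀ r ∈ R, r * x * r⁻¹ ∈ R := fun r hr => mul_mem (mul_mem hr hx) (inv_mem hr)
  have hCgA : ∀ g ∈ Cg, g ∈ A := by
    rintro _ ⟨r, hr, b, hb, rfl⟩
    rw [commutatorElement_def]
    exact mul_mem (hconjA _ (pow_mem (hxR r hr) q) b hb) (inv_mem hb)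
  set C := closure Cg with hC
  have hCA : C ≤ A := (closure_le _).mpr hCgA
  have hRC : R ≤ normalizer (C : Set H) := by
    rw [hC]
    refine le_normalizer_of_conj ?_
    intro r hr g hg
    have h : closure Cg ≤ (closure Cg).comap (MulAut.conj r).toMonoidHom := by
      refine (closure_le _).mpr ?_
      rintro _ ⟨t, ht, b, hb, rfl⟩
      refine subset_closure ⟨r * t, mul_mem hr ht, r * b * r⁻¹, hconjA r hr b hb, ?_⟩
      have e : ((r * t) * x * (r * t)⁻¹) ^ q = r * (t * x * t⁻¹) ^ q * r⁻¹ := by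
        rw [← conj_pow]; group
      show r * ⁅(t * x * t⁻¹) ^ q, b⁆ * r⁻¹ = _
      rw [e, commutatorElement_def, commutatorElement_def]
      group
    exact h hg
  -- a nontrivial generator acts on `F`
  have hCF' : ¬ ∀ c ∈ (C : Set H), ∀ k ∈ F, Commute c k := by
    intro hall
    refine hne ?_
    have h1 : ⁅x ^ q, a⁆ ∈ Cg := ⟨1, one_mem _, a, ha, by simp⟩
    have h2 : ⁅x ^ q, a⁆ ∈ F := hCF (mem_centralizer_iff.mpr fun k hk =>
      (hall _ (subset_closure h1) k hk).eq.symm)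
    exact commutatorElement_eq_one_iff_mul_comm.mp (eq_one_of_pow_prime hF h2 (hAp _ (hCgA _ h1)))
  have hRp : IsPGroup p R := hP.to_le hRP
  haveI : Group.IsNilpotent R := hRp.isNilpotent
  have hcopR : ∀ {S : Subgroup H}, S ≤ F → (Nat.card R).Coprime (Nat.card S) := by
    intro S hS
    obtain ⟨j, hj⟩ := IsPGroup.iff_card.mp hRp
    rw [hj]
    exact ((hF.coprime_dvd_left (card_dvd_of_le hS)).pow_right j).symm
  obtain ⟨s, hs, S₀, hS₀⟩ := exists_sylow_not_centralized (A := R) (K := F) le_normalizer_of_normal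
    (hcopR le_rfl) inferInstance hCF'
  obtain ⟨S, ⟨hSF, hSs, hRS, hSC⟩, hmin⟩ := Set.Finite.exists_minimal
    (s := {S : Subgroup H | S ≤ F ∧ IsPGroup s S ∧ R ≤ normalizer (S : Set H) ∧
      ¬ ∀ c ∈ (C : Set H), ∀ k ∈ S, Commute c k}) (Set.toFinite _) ⟨S₀, hS₀⟩
  have hcent : ∀ W ≤ S, W ≠ S → R ≤ normalizer (W : Set H) → ∀ c ∈ C, ∀ k ∈ W, Commute c k := by
    intro W hW hWne hRW
    by_contra hnot
    exact hWne (le_antisymm hW (hmin (y := W) ⟨hW.trans hSF, hSs.to_le hW, hRW, hnot⟩ hW))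
  have hSne : S ≠ ⊥ := fun e => hSC fun c _ k hk => by
    rw [e, mem_bot] at hk
    rw [hk]; exact Commute.one_right c
  haveI : Nontrivial S := S.nontrivial_iff_ne_bot.mpr hSne
  haveI : Group.IsNilpotent S := hSs.isNilpotent
  haveI : Group.IsSolvable S := inferInstance
  have hS' : ⁅S, S⁆ < S := by
    refine lt_of_le_of_ne (commutator_le_self S) fun e => ?_
    refine (Group.IsSolvable.commutator_lt_top_of_nontrivial S).ne ?_
    apply map_injective S.subtype_injective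
    rw [map_subtype_commutator, e, ← MonoidHom.range_eq_map, range_subtype]
  have hRS' : R ≤ normalizer ((⁅S, S⁆ : Subgroup H) : Set H) := fun r hr =>
    mem_normalizer_commutator (hRS hr) (hRS hr)
  have hC' := hcent _ hS'.le hS'.ne hRS'
  have hCR : C ≤ R := hCA.trans hAR
  have hSCeq : ⁅S, C⁆ = S := by
    by_contra hne'
    have hle := Coprime.commutator_le_of_le_normalizer (hCR.trans hRS)
    have hnorm : R ≤ normalizer ((⁅S, C⁆ : Subgroup H) : Set H) := fun r hr =>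
      mem_normalizer_commutator (hRS hr) (hRC hr)
    have h1 := hcent _ hle hne' hnorm
    have hcopC : (Nat.card C).Coprime (Nat.card S) := (hcopR hSF).coprime_dvd_left (card_dvd_of_le hCR)
    have h2 : ⁅S, C⁆ = ⊥ := by
      rw [← Coprime.commutator_commutator_eq (hCR.trans hRS) hcopC (Or.inr inferInstance), commutator_eq_bot_iff_le_centralizer]
      exact fun k hk => mem_centralizer_iff.mpr fun c hc => (h1 c hc k hk).eq
    refine hSC fun c hc k hk => ?_
    exact (mem_centralizer_iff.mp (commutator_eq_bot_iff_le_centralizer.mp h2 hk) c hc)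
  -- the derived subgroup is central
  have hcen : ∀ e ∈ (⁅S, S⁆ : Subgroup H), ∀ k ∈ S, Commute e k := by
    have h : ⁅⁅S, C⁆, (⁅S, S⁆ : Subgroup H)⁆ = ⊥ := by
      refine commutator_commutator_eq_bot_of_rotate ?_ ?_
      · have : ⁅C, (⁅S, S⁆ : Subgroup H)⁆ = ⊥ := commutator_eq_bot_iff_le_centralizer.mpr fun c hc =>
          mem_centralizer_iff.mpr fun k hk => (hC' c hc k hk).eq.symm
        rw [this, commutator_bot_left]
      · rw [eq_bot_iff]
        refine le_of_le_of_eq (commutator_mono ?_ le_rfl) (commutator_eq_bot_iff_le_centralizer.mpr fun k hk =>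
          mem_centralizer_iff.mpr fun c hc => (hC' c hc k hk).eq)
        exact Coprime.commutator_le_of_le_normalizer (fun k hk =>
          mem_normalizer_commutator (le_normalizer hk) (le_normalizer hk))
    rw [hSCeq] at h
    exact fun e he k hk => mem_centralizer_iff.mp (commutator_eq_bot_iff_le_centralizer.mp h hk) e he
  have hAS' : ∀ e ∈ (⁅S, S⁆ : Subgroup H), ∀ b ∈ A, Commute b e := by
    intro e he b hb
    have hle : A ≤ centralizer {e} := hAgen.trans ((closure_le _).mpr (by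
      rintro _ ⟨w, hw, rfl⟩
      exact mem_centralizer_singleton_iff.mpr (hab w (hRP hw) _ (hS'.le.trans hSF)
        (fun c hc d hd => hcen c hc d (hS'.le hd)) (hRS' hw) e he).eq))
    exact mem_centralizer_singleton_iff.mp (hle hb)
  have hAS : ∀ b ∈ A, ∀ k ∈ S, b * k * b⁻¹ ∈ S := fun b hb k hk =>
    (mem_normalizer_iff.mp (hRS (hAR hb)) k).mp hk
  -- a hyperplane with fixed points moved by `C`
  set Bad : Subgroup H → Prop := fun B => B ≤ A ∧
    ¬ ∀ c ∈ C, ∀ k ∈ S, (∀ b ∈ B, Commute b k) → Commute c k with hBad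
  obtain ⟨B, ⟨hBA, hBbad⟩, hBmax⟩ := Set.Finite.exists_maximal
    (s := {B : Subgroup H | Bad B}) (Set.toFinite _) ⟨⊥, bot_le, fun hall => hSC fun c hc k hk =>
      hall c hc k hk fun b hb => by rw [mem_bot] at hb; rw [hb]; exact Commute.one_left k⟩
  have hBne : ∀ B' ≤ A, B < B' → ∀ c ∈ C, ∀ k ∈ S, (∀ b ∈ B', Commute b k) → Commute c k := by
    intro B' hB' hlt
    by_contra hnot
    exact hlt.not_ge (hBmax (y := B') ⟨hB', hnot⟩ hlt.le)
  obtain ⟨b₁, hb₁, hb₁B⟩ : ∃ b₁ ∈ A, b₁ ∉ B := by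
    by_contra hall
    push Not at hall
    exact hBbad fun c hc k _ h => h c (hall c (hCA hc))
  have hnorB : ∀ {b : H}, b ∈ A → zpowers b ≤ normalizer (B : Set H) := fun {b} hb =>
    zpowers_le.mpr (centralizer_le_normalizer _ (mem_centralizer_iff.mpr fun c hc => (hAc c (hBA hc) b hb).eq))
  have hspan : ∀ b ∈ A, ∃ c ∈ B, ∃ k : ℤ, b = c * b₁ ^ k := by
    intro b hb
    by_contra hnot
    push Not at hnot
    refine hBbad fun c hc k hk hBk => ?_
    set A₀ := zpowers b₁ ⊔ zpowers b with hA₀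
    have hA₀A : A₀ ≤ A := sup_le (zpowers_le.mpr hb₁) (zpowers_le.mpr hb)
    haveI : IsMulCommutative A₀ := ⟨⟨fun u v => Subtype.ext (hAc _ (hA₀A u.2) _ (hA₀A v.2)).eq⟩⟩
    have hB0 : ∀ u ∈ A₀, u ∈ B → u = 1 := by
      intro u hu huB
      obtain ⟨v, hv, w, hw, rfl⟩ := Coprime.exists_mul_of_mem_sup
        (zpowers_le.mpr (centralizer_le_normalizer _ (mem_centralizer_iff.mpr fun c hc =>
          (hAc c (zpowers_le.mpr hb₁ hc) b hb).eq))) hu
      obtain ⟨i, rfl⟩ := mem_zpowers_iff.mp hv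
      obtain ⟨j, rfl⟩ := mem_zpowers_iff.mp hw
      by_cases hj : (p : ℤ) ∣ j
      · obtain ⟨j', rfl⟩ := hj
        rw [zpow_mul b, zpow_natCast, hAp b hb, one_zpow, mul_one] at huB ⊢
        by_cases hi : (p : ℤ) ∣ i
        · obtain ⟨i', rfl⟩ := hi
          rw [zpow_mul, zpow_natCast, hAp b₁ hb₁, one_zpow]
        · obtain ⟨u, v, huv⟩ := (Nat.prime_iff_prime_int.mp hp).coprime_iff_not_dvd.mpr hi
          refine absurd ?_ hb₁B
          have := zpow_mem huB v
          rw [← zpow_mul] at this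
          have e : b₁ = b₁ ^ (i * v) := by
            conv_lhs => rw [← zpow_one b₁, ← huv]
            rw [zpow_add, mul_comm u (p : ℤ), zpow_mul, zpow_natCast, hAp b₁ hb₁, one_zpow, one_mul,
              mul_comm v i]
          rwa [← e] at this
      · exfalso
        obtain ⟨u, v, huv⟩ := (Nat.prime_iff_prime_int.mp hp).coprime_iff_not_dvd.mpr hj
        refine hnot ((b₁ ^ i * b ^ j) ^ v) (zpow_mem huB v) (-(i * v)) ?_
        have hc : Commute (b₁ ^ i) (b ^ j) := (hAc b₁ hb₁ b hb).zpow_zpow i j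
        have e : b ^ (j * v) = b := by
          conv_rhs => rw [← zpow_one b, ← huv]
          rw [zpow_add, mul_comm u (p : ℤ), zpow_mul b (p : ℤ), zpow_natCast, hAp b hb, one_zpow, one_mul,
            mul_comm v j]
        rw [hc.mul_zpow, ← zpow_mul, ← zpow_mul, e, mul_assoc,
          ((hAc b₁ hb₁ b hb).symm.zpow_right (-(i * v))).eq, ← mul_assoc, ← zpow_add, add_neg_cancel,
          zpow_zero, one_mul]
    have hcyc : ¬ IsCyclic A₀ := by
      intro hcy
      have hexpA : Monoid.exponent A₀ ∣ p :=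
        Monoid.exponent_dvd_of_forall_pow_eq_one fun u => Subtype.ext (hAp _ (hA₀A u.2))
      rw [hcy.exponent_eq_card] at hexpA
      have h1 : zpowers b₁ = A₀ := by
        refine eq_of_le_of_card_ge le_sup_left ?_
        rw [Nat.card_zpowers, orderOf_eq_prime (hAp b₁ hb₁) (fun e => hb₁B (e ▸ one_mem B))]
        exact Nat.le_of_dvd hp.pos hexpA
      obtain ⟨i, hi⟩ := mem_zpowers_iff.mp (h1.ge (mem_sup_right (mem_zpowers b)))
      exact hnot 1 (one_mem B) i (by rw [one_mul, hi])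
    set K := S ⊓ centralizer (B : Set H) with hK
    have hA₀K : A₀ ≤ normalizer (K : Set H) := le_normalizer_of_conj fun u hu k hk =>
      ⟨hAS u (hA₀A hu) k hk.1, mem_centralizer_iff.mpr fun e he => by
        have h1 : Commute e u := hAc e (hBA he) u (hA₀A hu)
        have h2 : Commute e k := mem_centralizer_iff.mp hk.2 e he
        exact ((h1.mul_right h2).mul_right h1.inv_right).eq⟩
    have hcopK : (Nat.card A₀).Coprime (Nat.card K) :=
      (hcopR ((inf_le_left : K ≤ S).trans hSF)).coprime_dvd_left (card_dvd_of_le (hA₀A.trans hAR))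
    have hKC : K ≤ centralizer ({c} : Set H) := by
      rw [← Coprime.iSup_centralizer_eq hcyc hA₀K hcopK]
      refine iSup₂_le fun u hu k hk => mem_centralizer_singleton_iff.mpr ?_
      have hlt : B < B ⊔ zpowers u := lt_of_le_of_ne le_sup_left fun e =>
        hu.2 (hB0 u hu.1 (e.ge (mem_sup_right (mem_zpowers u))))
      refine (hBne _ (sup_le hBA (zpowers_le.mpr (hA₀A hu.1))) hlt c hc k hk.1.1 fun e he => ?_).eq.symm
      have : B ⊔ zpowers u ≤ centralizer ({k} : Set H) := sup_le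
        (fun e he => mem_centralizer_singleton_iff.mpr (mem_centralizer_iff.mp hk.1.2 e he))
        (zpowers_le.mpr (mem_centralizer_singleton_iff.mpr (mem_centralizer_singleton_iff.mp hk.2).symm))
      exact mem_centralizer_singleton_iff.mp (this he)
    exact (mem_centralizer_singleton_iff.mp (hKC ⟨hk, mem_centralizer_iff.mpr hBk⟩)).symm
  -- the moved vector
  obtain ⟨c, hc, d, hd, hBd, hcd⟩ : ∃ c ∈ C, ∃ d ∈ S, (∀ b ∈ B, Commute b d) ∧ ¬ Commute c d := by
    by_contra hall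
    push Not at hall
    exact hBbad fun c hc k hk h => hall c hc k hk h
  set d' := b₁ * d * b₁⁻¹ * d⁻¹ with hd'
  have hd'S : d' ∈ S := mul_mem (hAS _ hb₁ _ hd) (inv_mem hd)
  have hBd' : ∀ b ∈ B, Commute b d' := fun b hb =>
    (((hAc b (hBA hb) b₁ hb₁).mul_right (hBd b hb)).mul_right (hAc b (hBA hb) b₁ hb₁).inv_right).mul_right
      (hBd b hb).inv_right
  have hb₁d : ¬ Commute b₁ d := fun h => hcd (by
    obtain ⟨e, he, k, rfl⟩ := hspan c (hCA hc)
    exact (hBd e he).mul_left (h.zpow_left k))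
  have hb₁d' : ¬ Commute b₁ d' := fun h => by
    have hk : ∀ k : ℕ, b₁ ^ k * d * (b₁ ^ k)⁻¹ = d' ^ k * d := by
      intro k
      induction k with
      | zero => simp
      | succ k ih =>
        calc b₁ ^ (k + 1) * d * (b₁ ^ (k + 1))⁻¹ = b₁ * (b₁ ^ k * d * (b₁ ^ k)⁻¹) * b₁⁻¹ := by
              rw [pow_succ']; group
          _ = b₁ * d' ^ k * b₁⁻¹ * (b₁ * d * b₁⁻¹) := by rw [ih]; group
          _ = d' ^ k * (d' * d) := by
              rw [(h.pow_right k).eq, mul_inv_cancel_right]; rw [hd']; group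
          _ = d' ^ (k + 1) * d := by rw [← mul_assoc, ← pow_succ]
    have h2 := hk p
    rw [hAp b₁ hb₁, one_mul, inv_one, mul_one, right_eq_mul] at h2
    have h3 := eq_one_of_pow_prime hF (hSF hd'S) h2
    refine hb₁d ?_
    rw [hd', mul_inv_eq_one, mul_inv_eq_iff_eq_mul] at h3
    exact h3
  -- an element moving the hyperplane
  obtain ⟨r, hr, hrB⟩ : ∃ r ∈ R, ¬ ∀ b ∈ B, (r * x * r⁻¹) ^ q * b * ((r * x * r⁻¹) ^ q)⁻¹ ∈ B := by
    by_contra hall
    push Not at hall
    have hCgB : ∀ g ∈ Cg, g ∈ B := by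
      rintro _ ⟨r, hr, b, hb, rfl⟩
      set z := (r * x * r⁻¹) ^ q with hz
      have hzp : z ^ p = 1 := by
        rw [hz, ← pow_mul, hq, ← pow_succ, Nat.sub_add_cancel hn]
        exact hexp _ (hRP (hxR r hr))
      obtain ⟨e, he, k, hk⟩ := hspan _ (hconjA z (pow_mem (hxR r hr) q) b₁ hb₁)
      have hzB : ∀ e ∈ B, z * e * z⁻¹ ∈ B := fun e he => hall r hr e he
      have hiter : ∀ i : ℕ, ∃ e ∈ B, z ^ i * b₁ * (z ^ i)⁻¹ = e * b₁ ^ (k ^ i) := by
        intro i
        induction i with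
        | zero => exact ⟨1, one_mem B, by simp⟩
        | succ i ih =>
          obtain ⟨f, hf, hfi⟩ := ih
          refine ⟨z * f * z⁻¹ * e ^ (k ^ i), mul_mem (hzB f hf) (zpow_mem he _), ?_⟩
          calc z ^ (i + 1) * b₁ * (z ^ (i + 1))⁻¹ = z * (z ^ i * b₁ * (z ^ i)⁻¹) * z⁻¹ := by
                rw [pow_succ']; group
            _ = (z * f * z⁻¹) * (z * b₁ ^ (k ^ i) * z⁻¹) := by rw [hfi]; group
            _ = (z * f * z⁻¹) * (e ^ (k ^ i) * b₁ ^ (k * k ^ i)) := by
                rw [← conj_zpow, hk, ((hAc e (hBA he) b₁ hb₁).zpow_right k).mul_zpow, ← zpow_mul]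
            _ = _ := by rw [pow_succ' k]; group
      obtain ⟨f, hf, hfp⟩ := hiter p
      rw [hzp, one_mul, inv_one, mul_one] at hfp
      have hpow : b₁ ^ (k ^ p - 1) ∈ B := by
        have : b₁ ^ (k ^ p - 1) = f⁻¹ := by
          rw [zpow_sub, zpow_one, eq_inv_iff_mul_eq_one]
          conv_lhs => arg 1; arg 2; rw [hfp]
          group
        rw [this]; exact inv_mem hf
      have hkp : (p : ℤ) ∣ k ^ p - k := by
        rw [← ZMod.intCast_zmod_eq_zero_iff_dvd]
        push_cast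
        rw [ZMod.pow_card, sub_self]
      have hk1 : b₁ ^ (k - 1) ∈ B := by
        obtain ⟨j, hj⟩ := hkp
        have : k - 1 = (k ^ p - 1) - (p : ℤ) * j := by rw [← hj]; ring
        rw [this, zpow_sub, zpow_mul, zpow_natCast, hAp b₁ hb₁, one_zpow, inv_one, mul_one]
        exact hpow
      obtain ⟨g, hg, i, rfl⟩ := hspan b hb
      rw [commutatorElement_def]
      have e1 : z * (g * b₁ ^ i) * z⁻¹ = (z * g * z⁻¹ * e ^ i) * b₁ ^ (k * i) := by
        calc z * (g * b₁ ^ i) * z⁻¹ = (z * g * z⁻¹) * (z * b₁ ^ i * z⁻¹) := by group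
          _ = _ := by rw [← conj_zpow, hk, ((hAc e (hBA he) b₁ hb₁).zpow_right k).mul_zpow, ← zpow_mul, ← mul_assoc]
      rw [e1, show (z * g * z⁻¹ * e ^ i) * b₁ ^ (k * i) * (g * b₁ ^ i)⁻¹
          = (z * g * z⁻¹ * e ^ i) * (b₁ ^ (k * i) * (b₁ ^ i)⁻¹) * g⁻¹ by group,
        ← zpow_neg, ← zpow_add, show k * i + -i = (k - 1) * i by ring, zpow_mul]
      exact mul_mem (mul_mem (mul_mem (hzB g hg) (zpow_mem he _)) (zpow_mem hk1 _)) (inv_mem hg)
    exact hcd (hBd c ((closure_le _).mpr hCgB hc))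
  set w := r * x * r⁻¹ with hw
  have hwR : w ∈ R := hxR r hr
  set z := w ^ q with hz
  -- translates in different places commute
  have hwN : ∀ i : ℕ, ∀ e ∈ S, w ^ i * e * (w ^ i)⁻¹ ∈ S := fun i e he =>
    (mem_normalizer_iff.mp (hRS (pow_mem hwR i)) e).mp he
  have hperiod : ∀ m : ℕ, (∀ b ∈ B, w ^ m * b * (w ^ m)⁻¹ ∈ B) → w ^ m = 1 := by
    intro m hm
    have hmem : w ^ m ∈ normalizer (B : Set H) := by
      refine Coprime.mem_normalizer_of_conj_smul_eq (eq_of_le_of_card_ge ?_ (Coprime.card_conj_smul _ B).ge)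
      rintro _ ⟨b, hb, rfl⟩
      exact hm b hb
    obtain ⟨i, hi, hid⟩ := (Nat.dvd_prime_pow hp).mp (Nat.gcd_dvd_right m (p ^ n))
    have hgcd : w ^ (m.gcd (p ^ n)) ∈ normalizer (B : Set H) := by
      rw [← zpow_natCast, Nat.gcd_eq_gcd_ab, zpow_add, zpow_mul, zpow_mul, zpow_natCast, zpow_natCast,
        hexp w (hRP hwR), one_zpow, mul_one]
      exact zpow_mem hmem _
    rcases Nat.lt_or_ge i n with hin | hin
    · refine absurd (fun b hb => (mem_normalizer_iff.mp ?_ b).mp hb) hrB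
      show w ^ p ^ (n - 1) ∈ _
      rw [show n - 1 = i + (n - 1 - i) by omega, pow_add, pow_mul, ← hid]
      exact pow_mem hgcd _
    · obtain ⟨j, hj⟩ : p ^ n ∣ m := by
        have := Nat.gcd_dvd_left m (p ^ n)
        rwa [hid, show i = n by omega] at this
      rw [hj, pow_mul, hexp w (hRP hwR), one_pow]
  have hpair : ∀ m : ℕ, Commute d' (w ^ m * d' * (w ^ m)⁻¹) := by
    intro m
    by_cases hm : ∀ b ∈ B, w ^ m * b * (w ^ m)⁻¹ ∈ B
    · rw [hperiod m hm, one_mul, inv_one, mul_one]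
    push Not at hm
    obtain ⟨b, hb, hbm⟩ := hm
    set v := w ^ m with hv
    have hvA : ∀ e ∈ A, v * e * v⁻¹ ∈ A := hconjA v (pow_mem hwR m)
    obtain ⟨e, he, k, hk⟩ := exists_eq_mul_zpow_of_not_mem (a := b₁) (hAc _ hb₁ _ (hvA b (hBA hb)))
      (fun e he => hAc _ hb₁ _ (hBA he)) (hAp b₁ hb₁) (hspan _ (hvA b (hBA hb))) hbm
    set β := (v * b * v⁻¹) ^ k with hβ
    have hd'eq : d' = β * d * β⁻¹ * d⁻¹ := by
      rw [hd', hk]
      have hcm : Commute e β := (hAc e (hBA he) _ (hvA b (hBA hb))).zpow_right k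
      rw [hcm.eq]
      calc β * e * d * (β * e)⁻¹ * d⁻¹ = β * (e * d * e⁻¹) * β⁻¹ * d⁻¹ := by group
        _ = _ := by rw [(hBd e he).eq, mul_inv_cancel_right]
    set δ := v * d' * v⁻¹ with hδ
    have hδS : δ ∈ S := hwN m d' hd'S
    have hβδ : Commute β δ := by
      refine Commute.zpow_left ?_ k
      show (v * b * v⁻¹) * (v * d' * v⁻¹) = (v * d' * v⁻¹) * (v * b * v⁻¹)
      calc (v * b * v⁻¹) * (v * d' * v⁻¹) = v * (b * d') * v⁻¹ := by group
        _ = v * (d' * b) * v⁻¹ := by rw [(hBd' b hb).eq]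
        _ = _ := by group
    set ε := δ * d * δ⁻¹ * d⁻¹ with hε
    have hεS : ε ∈ (⁅S, S⁆ : Subgroup H) := commutator_mem_commutator hδS hd
    have hβA : β ∈ A := zpow_mem (hvA b (hBA hb)) k
    have hβε : Commute β ε := hAS' ε hεS β hβA
    have hεd' : Commute ε (β * d * β⁻¹) := hcen ε hεS _ (hAS β hβA d hd)
    show d' * δ = δ * d'
    rw [hd'eq]
    have h1 : δ * (β * d * β⁻¹) * δ⁻¹ = ε * (β * d * β⁻¹) := by
      calc δ * (β * d * β⁻¹) * δ⁻¹ = (δ * β) * d * (δ * β)⁻¹ := by group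
        _ = (β * δ) * d * (β * δ)⁻¹ := by rw [hβδ.eq]
        _ = β * ε * d * β⁻¹ := by rw [hε]; group
        _ = ε * (β * d * β⁻¹) := by rw [hβε.eq]; group
    have h2 : δ * d * δ⁻¹ = ε * d := by rw [hε]; group
    symm
    calc δ * (β * d * β⁻¹ * d⁻¹)
        = (δ * (β * d * β⁻¹) * δ⁻¹) * (δ * d * δ⁻¹)⁻¹ * δ := by group
      _ = ε * (β * d * β⁻¹) * d⁻¹ * ε⁻¹ * δ := by rw [h1, h2]; group
      _ = (β * d * β⁻¹) * ε * d⁻¹ * ε⁻¹ * δ := by rw [hεd'.eq]
      _ = (β * d * β⁻¹) * d⁻¹ * δ := by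
          rw [show (β * d * β⁻¹) * ε * d⁻¹ * ε⁻¹ = (β * d * β⁻¹) * (ε * d⁻¹) * ε⁻¹ by group,
            ((hcen ε hεS d hd).inv_right).eq]; group
  -- the abelian orbit
  set L := closure (Set.range fun i : ℕ => w ^ i * d' * (w ^ i)⁻¹) with hL
  have hLF : L ≤ F := (closure_le _).mpr (by rintro _ ⟨i, rfl⟩; exact hSF (hwN i d' hd'S))
  have hgenc : ∀ i j : ℕ, Commute (w ^ i * d' * (w ^ i)⁻¹) (w ^ j * d' * (w ^ j)⁻¹) := by
    have key : ∀ i j : ℕ, i ≤ j → Commute (w ^ i * d' * (w ^ i)⁻¹) (w ^ j * d' * (w ^ j)⁻¹) := by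
      intro i j hij
      have := (hpair (j - i)).map (MulAut.conj (w ^ i)).toMonoidHom
      simp only [MulEquiv.coe_toMonoidHom, MulAut.conj_apply] at this
      rwa [show w ^ i * (w ^ (j - i) * d' * (w ^ (j - i))⁻¹) * (w ^ i)⁻¹ = w ^ j * d' * (w ^ j)⁻¹ by
        conv_rhs => rw [← Nat.add_sub_cancel' hij, pow_add]
        group] at this
    intro i j
    rcases le_total i j with h | h
    · exact key i j h
    · exact (key j i h).symm
  have hLab : ∀ u ∈ L, ∀ v ∈ L, Commute u v := by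
    haveI := Subgroup.isMulCommutative_closure (k := Set.range fun i : ℕ => w ^ i * d' * (w ^ i)⁻¹) (by
      rintro _ ⟨i, rfl⟩ _ ⟨j, rfl⟩; exact (hgenc i j).eq)
    intro u hu v hv
    exact congrArg Subtype.val (mul_comm' (⟨u, hu⟩ : L) ⟨v, hv⟩)
  have hwL : w ∈ normalizer (L : Set H) := by
    refine Coprime.mem_normalizer_of_conj_smul_eq (eq_of_le_of_card_ge ?_ (Coprime.card_conj_smul _ L).ge)
    show L.map (MulAut.conj w).toMonoidHom ≤ L
    rw [hL, MonoidHom.map_closure, closure_le]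
    rintro _ ⟨_, ⟨i, rfl⟩, rfl⟩
    refine subset_closure ⟨i + 1, ?_⟩
    show w ^ (i + 1) * d' * (w ^ (i + 1))⁻¹ = w * (w ^ i * d' * (w ^ i)⁻¹) * w⁻¹
    rw [pow_succ']; group
  have hzd : Commute z d' := hab w (hRP hwR) L hLF hLab hwL d' (subset_closure ⟨0, by simp⟩)
  -- contradiction
  obtain ⟨b, hb, hbz⟩ : ∃ b ∈ B, z * b * z⁻¹ ∉ B := by
    by_contra hall
    push Not at hall
    exact hrB hall
  refine hb₁d' ?_
  obtain ⟨e, he, k, hk⟩ := exists_eq_mul_zpow_of_not_mem (a := b₁)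
    (hAc _ hb₁ _ (hconjA z (pow_mem hwR q) b (hBA hb))) (fun e he => hAc _ hb₁ _ (hBA he)) (hAp b₁ hb₁)
    (hspan _ (hconjA z (pow_mem hwR q) b (hBA hb))) hbz
  rw [hk]
  refine (hBd' e he).mul_left (Commute.zpow_left ?_ k)
  exact (hzd.mul_left (hBd' b hb)).mul_left hzd.inv_left

/-- The powers commute. -/
theorem commute_powers {n : ℕ} (hn : 0 < n) {F : Subgroup H} [F.Normal]
    (hF : (Nat.card F).Coprime p) (hCF : centralizer (F : Set H) ≤ F) {P : Subgroup H} (hP : IsPGroup p P)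
    (hexp : ∀ x ∈ P, x ^ p ^ n = 1)
    (hab : ∀ x ∈ P, ∀ L ≤ F, (∀ a ∈ L, ∀ b ∈ L, Commute a b) → x ∈ normalizer (L : Set H) →
      ∀ l ∈ L, Commute (x ^ p ^ (n - 1)) l) :
    ∀ R ≤ P, ∀ x ∈ R, ∀ y ∈ R, Commute (x ^ p ^ (n - 1)) (y ^ p ^ (n - 1)) := by
  suffices h : ∀ (c : ℕ) (R : Subgroup H), Nat.card R = c → R ≤ P →
      ∀ x ∈ R, ∀ y ∈ R, Commute (x ^ p ^ (n - 1)) (y ^ p ^ (n - 1)) from
    fun R hR => h _ R rfl hR
  intro c
  induction c using Nat.strong_induction_on with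
  | _ c ih =>
    intro R hRc hRP x hx y hy
    by_cases hcy : zpowers x = R
    · obtain ⟨i, rfl⟩ := mem_zpowers_iff.mp (hcy.ge hy)
      exact ((Commute.self_zpow x i).pow_pow _ _)
    have hlt : zpowers x < R := lt_of_le_of_ne (zpowers_le.mpr hx) hcy
    obtain ⟨M, ⟨hxM, hMR⟩, hMmax⟩ := Set.Finite.exists_maximal
      (s := {M : Subgroup H | zpowers x ≤ M ∧ M < R}) (Set.toFinite _) ⟨_, le_rfl, hlt⟩
    have hRM : R ≤ normalizer (M : Set H) := by
      haveI : Group.IsNilpotent R := (hP.to_le hRP).isNilpotent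
      have h1 : M.subgroupOf R < ⊤ := lt_top_iff_ne_top.mpr fun e => hMR.not_ge (subgroupOf_eq_top.mp e)
      have h2 := Group.normalizerCondition_of_isNilpotent _ h1
      obtain ⟨g, hg, hgM⟩ := SetLike.exists_of_lt h2
      have hgN : (g : H) ∈ normalizer (M : Set H) := by
        rw [← subgroupOf_normalizer_eq hMR.le] at hg
        exact hg
      have hMlt : M < normalizer (M : Set H) ⊓ R := lt_of_le_of_ne (le_inf le_normalizer hMR.le)
        fun e => hgM (e.ge ⟨hgN, g.2⟩)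
      by_contra hnle
      refine hMlt.not_ge (hMmax (y := normalizer (M : Set H) ⊓ R) ⟨hxM.trans hMlt.le, ?_⟩ hMlt.le)
      exact lt_of_le_of_ne inf_le_right fun e => hnle fun r hr => (e.ge hr).1
    have hMc : Nat.card M < c := hRc ▸ (by
      by_contra hge
      exact hMR.ne (eq_of_le_of_card_ge hMR.le (not_lt.mp hge)))
    have hcomm := ih _ hMc M rfl (hMR.le.trans hRP)
    set T : Set H := {g | ∃ w ∈ M, g = w ^ p ^ (n - 1)} with hT
    haveI := Subgroup.isMulCommutative_closure (k := T) (by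
      rintro _ ⟨u, hu, rfl⟩ _ ⟨v, hv, rfl⟩; exact (hcomm u hu v hv).eq)
    have hAc : ∀ a ∈ closure T, ∀ b ∈ closure T, Commute a b := fun a ha b hb =>
      congrArg Subtype.val (mul_comm' (⟨a, ha⟩ : closure T) ⟨b, hb⟩)
    have hAp : ∀ a ∈ closure T, a ^ p = 1 := by
      intro a ha
      induction ha using closure_induction with
      | mem g hg =>
        obtain ⟨w, hw, rfl⟩ := hg
        rw [← pow_mul, ← pow_succ, Nat.sub_add_cancel hn]
        exact hexp w (hRP (hMR.le hw))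
      | one => exact one_pow p
      | mul u v hu hv h1 h2 => rw [(hAc u hu v hv).mul_pow, h1, h2, one_mul]
      | inv u _ h1 => rw [inv_pow, h1, inv_one]
    refine (commute_of_normalized hn hF hCF hP hexp hab hRP ?_ ?_ hAc hAp ?_ hy
      (subset_closure ⟨x, hxM (mem_zpowers x), rfl⟩)).symm
    · exact (closure_le _).mpr (by rintro _ ⟨w, hw, rfl⟩; exact pow_mem (hMR.le hw) _)
    · refine le_normalizer_of_conj fun r hr g hg => ?_
      have h : closure T ≤ (closure T).comap (MulAut.conj r).toMonoidHom := (closure_le _).mpr (by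
        rintro _ ⟨w, hw, rfl⟩
        refine subset_closure ⟨r * w * r⁻¹, (mem_normalizer_iff.mp (hRM hr) w).mp hw, ?_⟩
        show r * w ^ p ^ (n - 1) * r⁻¹ = _
        rw [conj_pow])
      exact h hg
    · exact closure_mono (by rintro _ ⟨w, hw, rfl⟩; exact ⟨w, hMR.le hw, rfl⟩)

end Commute

/-- Small degree forces the powers to centralize normalized abelian `p'`-groups. -/
theorem commute_of_abelian {K : Type*} [Field K] [IsAlgClosed K] {p : ℕ} [Fact p.Prime] [CharP K p]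
    {V : Type*} [AddCommGroup V] [Module K V] [FiniteDimensional K V] {H : Type*} [Group H] [Finite H]
    (ρ : H →* Module.End K V) (hρ : Function.Injective ρ) {n : ℕ} (hn : 0 < n) {x : H}
    (hexp : x ^ p ^ n = 1) (hdeg : (ρ x - 1) ^ (p ^ n - 1) = 0) {L : Subgroup H}
    (hL : (Nat.card L).Coprime p) (hab : ∀ a ∈ L, ∀ b ∈ L, Commute a b)
    (hxL : x ∈ normalizer (L : Set H)) : ∀ l ∈ L, Commute (x ^ p ^ (n - 1)) l := by
  classical
  have hp : p.Prime := Fact.out
  set z := x ^ p ^ (n - 1) with hz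
  by_contra hne
  have hxo : orderOf x = p ^ n := by
    obtain ⟨m, rfl⟩ : ∃ m, n = m + 1 := ⟨n - 1, by omega⟩
    refine orderOf_eq_prime_pow (fun h => hne fun l _ => ?_) hexp
    rw [hz, Nat.add_sub_cancel, h]
    exact Commute.one_left l
  have hcop : (Nat.card (zpowers x)).Coprime (Nat.card L) := by
    rw [Nat.card_zpowers, hxo]; exact (hL.pow_right n).symm
  obtain ⟨q, hq, S, hSL, hSq, hxS, hSz⟩ := exists_sylow_not_centralized (C := {z})
    (zpowers_le.mpr hxL) hcop (Coprime.isSolvable_zpowers x) (fun h => hne fun l hl => h z rfl l hl)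
  simp only [Set.mem_singleton_iff, forall_eq] at hSz
  have hxS' : x ∈ normalizer (S : Set H) := hxS (mem_zpowers x)
  have hzS : ∀ d ∈ S, z * d * z⁻¹ ∈ S := fun d hd => (mem_normalizer_iff.mp (pow_mem hxS' _) d).mp hd
  have habS : ∀ a ∈ S, ∀ b ∈ S, Commute a b := fun a ha b hb => hab a (hSL ha) b (hSL hb)
  have hzp : z ^ p = 1 := by rw [hz, ← pow_mul, ← pow_succ, Nat.sub_add_cancel hn]; exact hexp
  let φ : S →* H :=
    { toFun := fun d => (d : H)⁻¹ * (z * d * z⁻¹)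
      map_one' := by simp
      map_mul' := fun a b => by
        show ((a : H) * b)⁻¹ * (z * (a * b) * z⁻¹) = (a : H)⁻¹ * (z * a * z⁻¹) * ((b : H)⁻¹ * (z * b * z⁻¹))
        have h1 : Commute (b : H)⁻¹ ((a : H)⁻¹ * (z * a * z⁻¹)) :=
          habS _ (inv_mem b.2) _ (mul_mem (inv_mem a.2) (hzS _ a.2))
        calc ((a : H) * b)⁻¹ * (z * (a * b) * z⁻¹)
            = (b : H)⁻¹ * ((a : H)⁻¹ * (z * a * z⁻¹)) * (z * b * z⁻¹) := by group
          _ = _ := by rw [h1.eq]; group }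
  set Q := φ.range with hQ
  have hQS : Q ≤ S := by
    rintro _ ⟨d, rfl⟩
    exact mul_mem (inv_mem d.2) (hzS _ d.2)
  let ψ : Q → Q := fun d => ⟨(d : H)⁻¹ * (z * d * z⁻¹), ⟨⟨d, hQS d.2⟩, rfl⟩⟩
  have hSp : (Nat.card S).Coprime p := hL.coprime_dvd_left (card_dvd_of_le hSL)
  have hfix : ∀ d ∈ Q, Commute z d → d = 1 := by
    rintro _ ⟨⟨d, hd⟩, rfl⟩ hc
    set e := d⁻¹ * (z * d * z⁻¹) with he
    have hez : Commute z e := hc
    have hk : ∀ k : ℕ, z ^ k * d * (z ^ k)⁻¹ = d * e ^ k := by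
      intro k
      induction k with
      | zero => simp
      | succ k ih =>
        calc z ^ (k + 1) * d * (z ^ (k + 1))⁻¹ = z * (z ^ k * d * (z ^ k)⁻¹) * z⁻¹ := by rw [pow_succ']; group
          _ = (z * d * z⁻¹) * (z * e ^ k * z⁻¹) := by rw [ih]; group
          _ = d * e * e ^ k := by rw [(hez.pow_right k).eq, mul_inv_cancel_right, he]; group
          _ = d * e ^ (k + 1) := by rw [mul_assoc, ← pow_succ']
    have h2 := hk p
    rw [hzp, one_mul, inv_one, mul_one, left_eq_mul] at h2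
    exact eq_one_of_pow_prime hSp (mul_mem (inv_mem hd) (hzS _ hd)) h2
  have hψ : Function.Surjective ψ := by
    refine Finite.surjective_of_injective fun a b hab' => Subtype.ext ?_
    have h : φ ⟨a, hQS a.2⟩ = φ ⟨b, hQS b.2⟩ := congrArg Subtype.val hab'
    have h1 : φ (⟨a, hQS a.2⟩ * (⟨b, hQS b.2⟩ : S)⁻¹) = 1 := by rw [map_mul, map_inv, h, mul_inv_cancel]
    refine mul_inv_eq_one.mp (hfix _ (mul_mem a.2 (inv_mem b.2)) ?_)
    have h2 : ((a : H) * (b : H)⁻¹)⁻¹ * (z * ((a : H) * (b : H)⁻¹) * z⁻¹) = 1 := h1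
    exact mul_inv_eq_iff_eq_mul.mp (inv_mul_eq_one.mp h2).symm
  have hxQ : x ∈ normalizer (Q : Set H) := by
    refine le_normalizer_of_conj (X := zpowers x) (fun u hu e he => ?_) (mem_zpowers x)
    obtain ⟨⟨d, hd⟩, rfl⟩ := he
    refine ⟨⟨u * d * u⁻¹, (mem_normalizer_iff.mp (hxS hu) d).mp hd⟩, ?_⟩
    have huz : Commute u z := by
      obtain ⟨i, rfl⟩ := mem_zpowers_iff.mp hu
      exact (Commute.self_zpow x i).symm.pow_right _
    show (u * d * u⁻¹)⁻¹ * (z * (u * d * u⁻¹) * z⁻¹) = u * (d⁻¹ * (z * d * z⁻¹)) * u⁻¹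
    calc (u * d * u⁻¹)⁻¹ * (z * (u * d * u⁻¹) * z⁻¹) = u * d⁻¹ * u⁻¹ * ((z * u) * d * (z * u)⁻¹) := by group
      _ = u * d⁻¹ * u⁻¹ * ((u * z) * d * (u * z)⁻¹) := by rw [huz.eq]
      _ = _ := by group
  obtain ⟨c, hc, hc1⟩ : ∃ c ∈ Q, c ≠ 1 := by
    by_contra hall
    push Not at hall
    refine hSz fun d hd => ?_
    have h2 : d⁻¹ * (z * d * z⁻¹) = 1 := hall _ ⟨⟨d, hd⟩, rfl⟩
    exact mul_inv_eq_iff_eq_mul.mp (inv_mul_eq_one.mp h2).symm
  have hpq : p ≠ q := by
    rintro rfl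
    obtain ⟨k, hk⟩ := hSq ⟨c, hQS hc⟩
    refine hc1 (orderOf_eq_one_iff.mp (Nat.eq_one_of_dvd_coprimes (hSp.pow_right k) ?_
      (orderOf_dvd_of_pow_eq_one (congrArg Subtype.val hk))))
    rw [← Nat.card_zpowers]
    exact card_dvd_of_le (zpowers_le.mpr (hQS hc))
  rcases bound hpq ρ Q (hSq.to_le hQS) x hxQ hn hxo (fun e he => by
      obtain ⟨d, hd⟩ := hψ ⟨e, he⟩
      exact subset_closure ⟨d, d.2, (congrArg Subtype.val hd).symm⟩)
    (fun a ha b hb => by
      rw [commutatorElement_eq_one_iff_mul_comm.mpr (habS a (hQS ha) b (hQS hb)).eq]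
      exact Commute.one_left _)
    ⟨c, hc, fun e => hc1 (hρ (e.trans (map_one ρ).symm))⟩ hdeg with h | ⟨_, _, _, _, _, _, _, h6⟩
  · have := Nat.one_le_pow n p hp.pos
    omega
  · exact h6 ⟨⟨fun a b => Subtype.ext (habS _ (hQS a.2) _ (hQS b.2)).eq⟩⟩

theorem conjProd_map {G G' : Type*} [Group G] [Group G'] (φ : G →* G') {a : ℕ} (f : Fin a → G) (v : G) :
    φ (conjProd f v) = conjProd (φ ∘ f) (φ v) := by
  simp [conjProd, map_list_prod, List.map_ofFn, Function.comp_def]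

theorem conjProd_mul_left {G : Type*} [Group G] (z : G) {a : ℕ} (f : Fin a → G) (v : G) :
    conjProd (fun i => z * f i) v = z * conjProd f v * z⁻¹ := by
  have h := conjProd_map (MulAut.conj z).toMonoidHom f v
  simp only [MulEquiv.coe_toMonoidHom, MulAut.conj_apply] at h
  rw [h]
  simp only [conjProd]
  refine congrArg List.prod (congrArg List.ofFn (funext fun i => ?_))
  simp only [Function.comp_apply, MulEquiv.coe_toMonoidHom, MulAut.conj_apply]
  group

/-- Two steps of the `p`-series lower the exponent. -/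
theorem exponent_lt_after_two_steps {G : Type u} [Group G] [Finite G] {p : ℕ} [Fact p.Prime] (hp2 : p ≠ 2)
    (hG : Cfsg.IsPSolvable p G) (e : ℕ) (hexp : ∀ (P : Sylow p G), ∀ x ∈ (P : Subgroup G), x ^ p ^ (e + 1) = 1)
    (hcore : Cfsg.pPrimeCore p G = ⊥) :
    ∀ P : Sylow p (((G ⧸ Cfsg.pCore p G) ⧸ Cfsg.pPrimeCore p (G ⧸ Cfsg.pCore p G)) ⧸
      Cfsg.pCore p ((G ⧸ Cfsg.pCore p G) ⧸ Cfsg.pPrimeCore p (G ⧸ Cfsg.pCore p G))),
      ∀ x ∈ P.toSubgroup, x ^ p ^ e = 1 := by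
  classical
  have hp : p.Prime := Fact.out
  set H := G ⧸ Cfsg.pCore p G
  set H₂ := H ⧸ Cfsg.pPrimeCore p H
  have hH : Cfsg.IsPSolvable p H := BlockHeights.isPSolvable_quot _ hG
  have hH₂ : Cfsg.IsPSolvable p H₂ := BlockHeights.isPSolvable_quot _ hH
  obtain ⟨d, ρ, hρ, hsum⟩ := exists_action hG hcore
  set F := Cfsg.pPrimeCore p H with hF
  set π := QuotientGroup.mk' F
  set π₂ := QuotientGroup.mk' (Cfsg.pCore p H₂)
  intro P₃ x₃ hx₃
  obtain ⟨P₂, rfl⟩ := Sylow.mapSurjective_surjective (QuotientGroup.mk'_surjective (Cfsg.pCore p H₂)) p P₃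
  rw [Sylow.coe_mapSurjective] at hx₃
  obtain ⟨x₂, hx₂, rfl⟩ := hx₃
  obtain ⟨P₁, rfl⟩ := Sylow.mapSurjective_surjective (QuotientGroup.mk'_surjective F) p P₂
  rw [Sylow.coe_mapSurjective] at hx₂
  obtain ⟨x, hx, rfl⟩ := hx₂
  obtain ⟨P₀, rfl⟩ := Sylow.mapSurjective_surjective (QuotientGroup.mk'_surjective (Cfsg.pCore p G)) p P₁
  set P := (Sylow.mapSurjective (QuotientGroup.mk'_surjective (Cfsg.pCore p G)) P₀ : Sylow p H) with hP
  have hmem : ∀ w ∈ (P : Subgroup H), w ^ p ^ (e + 1) = 1 ∧ (ρ w - 1) ^ (p ^ (e + 1) - 1) = 0 := by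
    intro w hw
    rw [hP, Sylow.coe_mapSurjective] at hw
    obtain ⟨g, hg, rfl⟩ := hw
    exact ⟨by rw [← map_pow, hexp P₀ g hg, map_one], pow_eq_zero_of_exponent ρ hsum hexp P₀ hg⟩
  set q := p ^ e with hq
  have hcomm : ∀ u ∈ (P : Subgroup H), ∀ v ∈ (P : Subgroup H), Commute (u ^ q) (v ^ q) := by
    intro u hu v hv
    have h := commute_powers (n := e + 1) e.succ_pos (Cores.pPrimeCore_coprime p H)
      (Characters.centralizer_pPrimeCore_le_of_pCore_eq_bot p hH (Cores.pCore_quotient_pCore p G))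
      P.isPGroup' (fun w hw => (hmem w hw).1)
      (fun w hw L hL hLc hwL => commute_of_abelian ρ hρ e.succ_pos (hmem w hw).1 (hmem w hw).2
        ((Cores.pPrimeCore_coprime p H).coprime_dvd_left (card_dvd_of_le hL)) hLc hwL)
      (P : Subgroup H) le_rfl u hu v hv
    simpa only [Nat.add_sub_cancel, ← hq] using h
  by_contra hne
  have hso : orderOf (π₂ (π x)) = p ^ (e + 1) := by
    refine orderOf_eq_prime_pow hne ?_
    rw [← map_pow, ← map_pow, (hmem x hx).1, map_one, map_one]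
  obtain ⟨d₂, ρ₂, hρ₂, hsum₂⟩ := exists_action hH₂ (Cores.pPrimeCore_quotient_pPrimeCore p H)
  set y := π x with hy
  have hzero : (ρ₂ (π₂ y) - 1) ^ (q + (q - 1)) = 0 := by
    have h := hsum₂ (fun i : Fin q => y ^ (q + (i : ℕ))) (fun i : Fin q => y ^ (i : ℕ)) (fun v hv => by
      have hvP : v ∈ (P.mapSurjective (QuotientGroup.mk'_surjective F) : Subgroup H₂) :=
        (Cores.pCore_isPGroup p H₂).le_sylow_of_normal _ hv
      rw [Sylow.coe_mapSurjective] at hvP
      obtain ⟨v₁, hv₁, rfl⟩ := hvP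
      have h1 : conjProd (fun i : Fin q => y ^ (i : ℕ)) (π v₁) = π ((v₁ * x) ^ q * (x ^ q)⁻¹) := by
        rw [mul_pow_eq_conjProd, mul_inv_cancel_right, conjProd_map]
        simp only [hy, Function.comp_def, map_pow]
      have h2 : conjProd (fun i : Fin q => y ^ (q + (i : ℕ))) (π v₁) =
          y ^ q * conjProd (fun i : Fin q => y ^ (i : ℕ)) (π v₁) * (y ^ q)⁻¹ := by
        simp only [pow_add]; exact conjProd_mul_left _ _ _
      have h3 : Commute (y ^ q) (conjProd (fun i : Fin q => y ^ (i : ℕ)) (π v₁)) := by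
        rw [h1, hy, ← map_pow]
        exact ((hcomm x hx _ (mul_mem hv₁ hx)).mul_right (Commute.refl (x ^ q)).inv_right).map π
      rw [h2, h3.eq, mul_inv_cancel_right, mul_inv_cancel]
      exact one_mem _)
    simp only [QuotientGroup.mk_pow, map_pow] at h
    have e1 : (ρ₂ (π₂ y) ^ q - 1) * ∑ i : Fin q, ρ₂ (π₂ y) ^ (i : ℕ) = 0 := by
      rw [sub_mul, one_mul, Finset.mul_sum, sub_eq_zero]
      simp only [← pow_add]
      exact h
    rw [← sub_one_pow_eq_sum (p := p) (ρ₂ (π₂ y)) e] at e1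
    have e2 : (ρ₂ (π₂ y) - 1) ^ q = ρ₂ (π₂ y) ^ q - 1 := by
      have := congrArg (Polynomial.aeval (ρ₂ (π₂ y))) (sub_pow_char_pow (p := p) (n := e)
        (Polynomial.X : Polynomial (AlgebraicClosure (ZMod p))) 1)
      simpa using this
    rw [pow_add, e2]
    exact e1
  have hp3 : 3 ≤ p := by have := hp.two_le; omega
  have hq1 : 1 ≤ q := Nat.one_le_pow e p hp.pos
  rcases theoremB (BlockHeights.isPSolvable_quot _ hH₂) (Cores.pCore_quotient_pCore p H₂) ρ₂ hρ₂ _ e.succ_pos hso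
      hzero with h | ⟨n₀, r, m, h1, h2, -, -, -, -, h3⟩
  · have : 3 * q ≤ p ^ (e + 1) := by rw [pow_succ', hq]; exact Nat.mul_le_mul_right _ hp3
    simp only [Nat.succ_eq_add_one] at h
    omega
  · simp only [Nat.succ_eq_add_one] at h2 h3
    have h4 : p ^ (e + 1 - n₀) * (p ^ (n₀ - 1) * 2) ≤ p ^ (e + 1 - n₀) * (p ^ n₀ - 1) := by
      refine Nat.mul_le_mul_left _ ?_
      have : p ^ n₀ = p ^ (n₀ - 1) * p := by rw [← pow_succ, Nat.sub_add_cancel h1]
      have : p ^ (n₀ - 1) * 3 ≤ p ^ (n₀ - 1) * p := Nat.mul_le_mul_left _ hp3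
      have : 1 ≤ p ^ (n₀ - 1) := Nat.one_le_pow _ _ hp.pos
      omega
    have h5 : p ^ (e + 1 - n₀) * (p ^ (n₀ - 1) * 2) = q * 2 := by
      rw [← mul_assoc, ← pow_add, hq, show e + 1 - n₀ + (n₀ - 1) = e by omega]
    omega

theorem pLength_le_two_mul_exponent : ∀ (e : ℕ) {G : Type u} [Group G] [Finite G] {p : ℕ} [Fact p.Prime],
    p ≠ 2 → Cfsg.IsPSolvable p G →
    (∀ (P : Sylow p G), ∀ x ∈ (P : Subgroup G), x ^ p ^ e = 1) → Cfsg.PLengthLE p (2 * e) G := by
  intro e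
  induction e with
  | zero =>
    intro G _ _ p hp _ _ hexp
    refine PLength.of_coprime ?_ _
    obtain ⟨P⟩ : Nonempty (Sylow p G) := inferInstance
    have : (P : Subgroup G) = ⊥ := (eq_bot_iff_forall _).mpr fun x hx => by simpa using hexp P x hx
    have h1 : ¬ p ∣ (P : Subgroup G).index := P.not_dvd_index
    rw [this, index_bot] at h1
    exact (hp.out.coprime_iff_not_dvd.mpr h1).symm
  | succ e ih =>
    intro G _ _ p hp hp2 hG hexp
    suffices hred : ∀ {H : Type u} [Group H] [Finite H], Cfsg.IsPSolvable p H →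
        (∀ (P : Sylow p H), ∀ x ∈ (P : Subgroup H), x ^ p ^ (e + 1) = 1) →
        Cfsg.pPrimeCore p H = ⊥ → Cfsg.PLengthLE p (2 * (e + 1)) H by
      refine PLength.of_quotient_coprime (Cfsg.pPrimeCore p G) (Cores.pPrimeCore_coprime p G)
        (hred (BlockHeights.isPSolvable_quot _ hG) (fun P x hx => ?_)
          (Cores.pPrimeCore_quotient_pPrimeCore p G))
      obtain ⟨P₀, rfl⟩ := Sylow.mapSurjective_surjective (QuotientGroup.mk'_surjective (Cfsg.pPrimeCore p G)) p P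
      rw [Sylow.coe_mapSurjective] at hx
      obtain ⟨y, hy, rfl⟩ := hx
      rw [← map_pow, hexp P₀ y hy, map_one]
    clear hG hexp
    intro G _ _ hG hexp hcore
    have hH := BlockHeights.isPSolvable_quot (Cfsg.pCore p G) hG
    have hH₂ := BlockHeights.isPSolvable_quot (Cfsg.pPrimeCore p (G ⧸ Cfsg.pCore p G)) hH
    have h := ih hp2 (BlockHeights.isPSolvable_quot _ hH₂) (exponent_lt_after_two_steps hp2 hG e hexp hcore)
    exact PLength.of_quotient_isPGroup (Cfsg.pCore p G) (Cores.pCore_isPGroup p G)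
      (PLength.of_quotient_coprime _ (Cores.pPrimeCore_coprime p _)
        (PLength.of_quotient_isPGroup _ (Cores.pCore_isPGroup p _) h))

end Cfsg.Agent.Lib.HallHigman
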