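import Mathlib
import Cfsg.Agent.Lib.HallHigman.Module

/-!
A free orbit of an operator of order `p` in an elementary abelian `p`-group.
-/

set_option autoImplicit false

namespace Cfsg.Agent.Lib.HallHigman

theorem free_orbit_module {p : ℕ} [hp : Fact p.Prime] {M : Type*} [AddCommGroup M] [Module (ZMod p) M]
    (L : Module.End (ZMod p) M) (hLp : L ^ p = 1) (a : M) (hN : ∑ i : Fin p, (L ^ (i : ℕ)) a ≠ 0) :
    ∃ R : Submodule (ZMod p) M, Nat.card R = p ^ p ∧ (∀ u ∈ R, L u ∈ R) ∧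
      Nat.card {u : M // u ∈ R ∧ L u = u} = p ∧ ∑ i : Fin p, (L ^ (i : ℕ)) a ∈ R := by
  classical
  set T : Module.End (ZMod p) M := L - 1 with hT
  have hsum : (T ^ (p - 1)) a = ∑ i : Fin p, (L ^ (i : ℕ)) a := by
    have h1 := sub_one_pow_eq_sum (p := p) L 1
    simp only [pow_one] at h1
    rw [hT, h1, LinearMap.sum_apply]
    exact Fintype.sum_equiv (finCongr (pow_one p)) _ _ fun i => rfl
  have hTp : (T ^ p) a = 0 := by
    have h1 : T ^ p = L ^ p - 1 := by
      have := congrArg (Polynomial.aeval L) (sub_pow_char_pow (p := p) (n := 1) (Polynomial.X : Polynomial (ZMod p)) 1)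
      simpa [hT] using this
    rw [h1, hLp, sub_self, LinearMap.zero_apply]
  have hTz : ∀ i, p ≤ i → (T ^ i) a = 0 := fun i hi => by
    rw [← Nat.sub_add_cancel hi, pow_add, Module.End.mul_apply, hTp, map_zero]
  let f : (Fin p → ZMod p) →ₗ[ZMod p] M := Fintype.linearCombination (ZMod p) fun i : Fin p => (T ^ (i : ℕ)) a
  have hf : ∀ c, f c = ∑ i, c i • (T ^ (i : ℕ)) a := fun c => Fintype.linearCombination_apply _ _ c
  -- independence
  have hind : ∀ k : ℕ, ∀ c : Fin p → ZMod p, (T ^ k) (f c) = 0 → ∀ i : Fin p, (i : ℕ) + k < p → c i = 0 := by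
    intro k c hc i
    induction i using WellFoundedLT.induction with
    | ind i ih =>
      intro hik
      have h1 : (T ^ (p - 1 - (i : ℕ))) (f c) = 0 := by
        rw [show p - 1 - (i : ℕ) = (p - 1 - (i : ℕ) - k) + k by omega, pow_add, Module.End.mul_apply, hc, map_zero]
      rw [hf, map_sum, Finset.sum_eq_single i] at h1
      · rw [map_smul, ← Module.End.mul_apply, ← pow_add, Nat.sub_add_cancel (by omega)] at h1
        refine (smul_eq_zero.mp h1).resolve_right fun h0 => hN ?_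
        rw [← hsum, h0]
      · intro j _ hji
        rcases lt_or_gt_of_ne hji with hlt | hgt
        · rw [ih j hlt (by omega), zero_smul, map_zero]
        · rw [map_smul, ← Module.End.mul_apply, ← pow_add, hTz _ (by omega), smul_zero]
      · intro h; exact absurd (Finset.mem_univ i) h
  have hfi : Function.Injective f := by
    rw [← LinearMap.ker_eq_bot, LinearMap.ker_eq_bot']
    exact fun c hc => funext fun i => hind 0 c (by simpa using hc) i (by simp)
  have hrange : ∀ m, (T ^ m) a ∈ LinearMap.range f := fun m => by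
    by_cases hm : m < p
    · exact ⟨Pi.single ⟨m, hm⟩ 1, by rw [hf, Finset.sum_eq_single ⟨m, hm⟩ (fun j _ hj => by simp [hj]) (by simp)]; simp⟩
    · rw [hTz m (by omega)]; exact zero_mem _
  refine ⟨LinearMap.range f, ?_, ?_, ?_, hsum ▸ hrange (p - 1)⟩
  · rw [Nat.card_congr (LinearEquiv.ofInjective f hfi).toEquiv.symm]
    simp [Nat.card_pi]
  · rintro _ ⟨c, rfl⟩
    have h1 : T (f c) ∈ LinearMap.range f := by
      rw [hf, map_sum]
      refine Submodule.sum_mem _ fun i _ => ?_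
      rw [map_smul, ← Module.End.mul_apply, ← pow_succ']
      exact Submodule.smul_mem _ _ (hrange _)
    have := add_mem h1 (LinearMap.mem_range_self f c)
    rwa [hT, LinearMap.sub_apply, Module.End.one_apply, sub_add_cancel] at this
  · let C : ZMod p → {u : M // u ∈ LinearMap.range f ∧ L u = u} := fun r =>
      ⟨r • (T ^ (p - 1)) a, Submodule.smul_mem _ r (hrange _), by
        have h1 : T (r • (T ^ (p - 1)) a) = 0 := by
          rw [map_smul, ← Module.End.mul_apply, ← pow_succ', Nat.sub_add_cancel hp.out.one_le, hTp, smul_zero]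
        rwa [hT, LinearMap.sub_apply, sub_eq_zero, Module.End.one_apply] at h1⟩
    refine (Nat.card_congr (Equiv.ofBijective C ⟨fun r s h => ?_, fun ⟨u, hu, hLu⟩ => ?_⟩)).symm.trans (Nat.card_zmod p)
    · have h1 := congrArg Subtype.val h
      simp only [C] at h1
      rw [← sub_eq_zero, ← sub_smul] at h1
      refine sub_eq_zero.mp ((smul_eq_zero.mp h1).resolve_right fun h0 => hN ?_)
      rw [← hsum, h0]
    · obtain ⟨c, rfl⟩ := hu
      refine ⟨c ⟨p - 1, Nat.sub_lt hp.out.pos one_pos⟩, Subtype.ext ?_⟩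
      simp only [C]
      rw [hf, Finset.sum_eq_single ⟨p - 1, Nat.sub_lt hp.out.pos one_pos⟩]
      · intro j _ hj
        have hj' : (j : ℕ) ≠ p - 1 := fun e => hj (Fin.ext e)
        rw [hind 1 c (by rw [pow_one, hT, LinearMap.sub_apply, Module.End.one_apply, hLu, sub_self]) j (by omega), zero_smul]
      · intro h; exact absurd (Finset.mem_univ _) h

theorem free_orbit_group {p : ℕ} [hp : Fact p.Prime] {A : Type*} [CommGroup A] [Module (ZMod p) (Additive A)]
    (σ : A →* A) (hσp : ∀ u, σ^[p] u = u) (a : A) (hN : ∏ i : Fin p, σ^[(i : ℕ)] a ≠ 1) :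
    ∃ B : Subgroup A, Nat.card B = p ^ p ∧ (∀ u ∈ B, σ u ∈ B) ∧
      Nat.card {u : A // u ∈ B ∧ σ u = u} = p ∧ ∏ i : Fin p, σ^[(i : ℕ)] a ∈ B := by
  let L : Module.End (ZMod p) (Additive A) := (MonoidHom.toAdditive σ).toZModLinearMap p
  have hLpow : ∀ (i : ℕ) (u : Additive A), (L ^ i) u = Additive.ofMul (σ^[i] u.toMul) := by
    intro i
    induction i with
    | zero => intro u; rfl
    | succ i ih => intro u; rw [pow_succ', Module.End.mul_apply, ih, Function.iterate_succ_apply']; rfl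
  have hsum : ∑ i : Fin p, (L ^ (i : ℕ)) (Additive.ofMul a) = Additive.ofMul (∏ i : Fin p, σ^[(i : ℕ)] a) := by
    rw [ofMul_prod]
    exact Finset.sum_congr rfl fun i _ => hLpow i _
  obtain ⟨R, h1, h2, h3, h4⟩ := free_orbit_module L (LinearMap.ext fun u => by rw [hLpow, hσp]; rfl)
    (Additive.ofMul a) (by rw [hsum]; exact fun e => hN (Additive.ofMul.injective e))
  rw [hsum] at h4
  exact ⟨AddSubgroup.toSubgroup' R.toAddSubgroup, h1, fun u hu => h2 _ hu, h3, h4⟩

theorem free_orbit {X : Type*} [Group X] {p : ℕ} [hp : Fact p.Prime] (U : Subgroup X)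
    (hUc : ∀ u ∈ U, ∀ v ∈ U, u * v = v * u) (hUp : ∀ u ∈ U, u ^ p = 1) (y : X)
    (hy : ∀ u ∈ U, y * u * y⁻¹ ∈ U) (hyp : ∀ u ∈ U, Commute (y ^ p) u) (a : X) (ha : a ∈ U)
    (hN : conjProd (fun i : Fin p => y ^ (i : ℕ)) a ≠ 1) :
    ∃ B : Subgroup X, B ≤ U ∧ Nat.card B = p ^ p ∧ (∀ b ∈ B, y * b * y⁻¹ ∈ B) ∧
      Nat.card ↥(B ⊓ Subgroup.centralizer ({y} : Set X)) = p ∧
      conjProd (fun i : Fin p => y ^ (i : ℕ)) a ∈ B := by
  have hcomm : ∀ u v : U, u * v = v * u := fun u v => Subtype.ext (hUc (u : X) u.2 (v : X) v.2)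
  letI : CommGroup U := { toGroup := inferInstance, mul_comm := hcomm }
  have hU1 : ∀ u : Additive U, p • u = 0 := fun u => by
    show Additive.ofMul ((Additive.toMul u) ^ p) = 0
    rw [show (Additive.toMul u : U) ^ p = 1 from Subtype.ext (hUp _ (Additive.toMul u).2)]; rfl
  letI : Module (ZMod p) (Additive U) := AddCommGroup.zmodModule hU1
  let σ : U →* U := MonoidHom.mk' (fun u => ⟨y * (u : X) * y⁻¹, hy _ u.2⟩)
    (fun u v => Subtype.ext (by simp [mul_assoc]))
  have hpow : ∀ (i : ℕ) (u : U), ((σ^[i] u : U) : X) = y ^ i * (u : X) * (y ^ i)⁻¹ := by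
    intro i
    induction i with
    | zero => intro u; simp
    | succ i ih =>
      intro u
      rw [Function.iterate_succ_apply']
      show y * ((σ^[i] u : U) : X) * y⁻¹ = _
      rw [ih, pow_succ']; group
  have hprod : ((∏ i : Fin p, σ^[(i : ℕ)] (⟨a, ha⟩ : U) : U) : X) = conjProd (fun i : Fin p => y ^ (i : ℕ)) a := by
    rw [← List.prod_ofFn, SubmonoidClass.coe_list_prod, List.map_ofFn, conjProd]
    exact congrArg List.prod (congrArg List.ofFn (funext fun i => hpow i _))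
  obtain ⟨B, h1, h2, h3, h4⟩ := free_orbit_group (p := p) σ
    (fun u => Subtype.ext (by rw [hpow, (hyp _ u.2).eq, mul_inv_cancel_right])) ⟨a, ha⟩
    (fun e => hN (by rw [← hprod, e]; rfl))
  refine ⟨B.map U.subtype, Subgroup.map_subtype_le _, ?_, ?_, ?_, ⟨_, h4, hprod⟩⟩
  · rw [Subgroup.card_map_of_injective U.subtype_injective, h1]
  · rintro _ ⟨u, hu, rfl⟩
    exact ⟨σ u, h2 u hu, rfl⟩
  · refine (Nat.card_congr (Equiv.ofBijective
      (fun u : {u : U // u ∈ B ∧ σ u = u} => (⟨(u.1 : X), Subgroup.mem_inf.mpr ⟨⟨u.1, u.2.1, rfl⟩,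
        Subgroup.mem_centralizer_singleton_iff.mpr ?_⟩⟩ : ↥(B.map U.subtype ⊓ Subgroup.centralizer ({y} : Set X))))
      ⟨fun u v h => ?_, fun ⟨b, hb⟩ => ?_⟩)).symm.trans h3
    · have := congrArg Subtype.val u.2.2
      exact (mul_inv_eq_iff_eq_mul.mp this).symm
    · exact Subtype.ext (Subtype.ext (congrArg (fun z : ↥(B.map U.subtype ⊓ Subgroup.centralizer ({y} : Set X)) => (z : X)) h))
    · obtain ⟨⟨u, hu, rfl⟩, hc⟩ := Subgroup.mem_inf.mp hb
      refine ⟨⟨u, hu, Subtype.ext (mul_inv_eq_iff_eq_mul.mpr (Subgroup.mem_centralizer_singleton_iff.mp hc).symm)⟩, rfl⟩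

end Cfsg.Agent.Lib.HallHigman
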